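import Groth.Agent.BruhatLib.SplitRedBC
import Groth.Agent.RedCharZeroLib.Scheme
import Groth.Agent.RedRankLib.CommRel
import Groth.Agent.S16774

/-!
# Base change of splittings along arbitrary morphisms
-/

set_option autoImplicit false
set_option linter.style.haveILetI false
set_option linter.unusedSectionVars false
set_option backward.isDefEq.respectTransparency false
set_option maxHeartbeats 1000000
set_option synthInstance.maxHeartbeats 400000

universe u

open CategoryTheory CategoryTheory.Limits MonoidalCategory CartesianMonoidalCategory AlgebraicGeometry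
open Groth.Agent
open scoped MonObj

noncomputable section

attribute [-instance] CategoryTheory.Hom.commGroup

namespace RedSym

variable {S P : Scheme.{u}} (f : P ⟶ S) {G : Over S} [GrpObj G] (D : Red.SplitRed G)

include D in
/-- A split reductive group stays reductive after any base change. -/
theorem isReductive_bc : Red.IsReductive (Red.bc f G) := by
  haveI := D.reductive.1
  haveI := D.reductive.2.1
  refine ⟨Groth.Agent.RedRank.isAffineHom_bc G f, MorphismProperty.pullback_snd (P := @Smooth) _ _ inferInstance,
    fun p => ?_⟩
  haveI : Nonempty ↥S := ⟨f p⟩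
  obtain ⟨e, he⟩ := RedCharZeroLib.exists_bc_comp (Red.geomPt p) f G
  haveI := he
  exact RedCharZeroLib.isReductiveOver_of_iso e (Bruhat.isReductiveOver_bc D _)

/-- **The splitting after a base change.** -/
def bcSplit : Red.SplitRed (Red.bc f G) where
  T := Red.bc f D.T
  i := (Over.pullback f).map D.i
  M := D.M
  idx := D.idx
  P := D.P
  pairing_eq := D.pairing_eq
  u := Bruhat.bcU f D
  reductive := isReductive_bc f D
  maximalTorus := by
    haveI := D.reductive.1
    haveI := D.reductive.2.1
    exact Groth.Agent.RCentre.isMaximalTorus_bc D.maximalTorus f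
  split := Grp.mkIso' (Bruhat.bcSplitIso f D)
  rootHom := Bruhat.isRootHom_bcU f D
  refl := Bruhat.exists_refl_bc f D
  dim_fibre p := by
    haveI := D.reductive.2.1
    obtain ⟨e, -⟩ := RedCharZeroLib.exists_bc_comp (Red.geomPt p) f G
    have hp : (Red.geomPt p ≫ f) (IsLocalRing.closedPoint _) = f p := by
      rw [Scheme.Hom.comp_apply, RedRank.geomPt_apply]
    have h1 := Groth.Agent.S16774.dim_fibre_bc G (Red.geomPt p ≫ f) (f p) hp
    have h2 := Groth.Agent.S16774.dim_fibre_bc G (Red.geomPt (f p)) (f p) (RedRank.geomPt_apply (f p))
    refine Eq.trans ?_ (D.dim_fibre (f p))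
    exact (((Scheme.homeoOfIso ((Over.forget _).mapIso e)).isHomeomorph.topologicalKrullDim_eq).symm.trans
      (h1.symm.trans h2))

end RedSym

end
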