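import Groth.Agent.RedSymLib.Inter
import Groth.Agent.SplitFibLib.BorelGrp
import Groth.Agent.SplitFibLib.Subgroups
import Groth.Agent.RootSubgrpLib.Apps
import Groth.Agent.RootSubgrpLib.Incl
import Groth.Agent.GrpFieldLib.Identity

/-!
# Borel subgroups containing the split torus and their unipotent radicals
-/

set_option autoImplicit false
set_option linter.style.haveILetI false
set_option linter.unusedSectionVars false
set_option backward.isDefEq.respectTransparency false
set_option maxHeartbeats 1000000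
set_option synthInstance.maxHeartbeats 400000

universe u

open CategoryTheory CategoryTheory.Limits MonoidalCategory CartesianMonoidalCategory AlgebraicGeometry
open Groth.Agent
open Groth.Agent.GaPts
open scoped MonObj

noncomputable section

attribute [-instance] CategoryTheory.Hom.commGroup

namespace RedSym

open SplitCell SplitFib RootSubgrp

section Data

variable {S : Scheme.{u}} [ConnectedSpace S] {G B : Over S} [GrpObj G] [GrpObj B] (D : Red.SplitRed G) {iB : B ⟶ G}

/-- The facts making a Borel subgroup a subgroup with roots. -/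
theorem borel_facts (hB : Red.IsBorel iB) : IsMonHom iB ∧ Mono iB ∧ Smooth B.hom ∧
    (∀ s : S, ConnectedSpace ↥(Red.geomFibre s B).left) ∧ RedSub.IsSubgrp iB := by
  obtain ⟨hm, hc, hs, hb⟩ := hB
  haveI := hc
  exact ⟨hm, (Over.forget S).mono_of_mono_map (inferInstanceAs (Mono iB.left)), hs, fun s => (hb s).2.2.2.1,
    hm, inferInstance⟩

/-- **The roots of a Borel subgroup containing the split torus are one side.** -/
theorem exists_sides_borel (hB : Red.IsBorel iB) (t : D.T ⟶ B) (ht : t ≫ iB = D.i) :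
    ∃ b : Sides D.P, (∀ (K : Type u) [Field K] [IsAlgClosed K] (ξ : Spec (CommRingCat.of K) ⟶ S),
        rootsAt D iB ξ = b.pos) ∧
      ∀ k ∈ b.pos, ∃ w : Red.Ga S ⟶ B, w ≫ iB = D.u k := by
  classical
  obtain ⟨hm, hmono, hs, hconn, -⟩ := borel_facts hB
  haveI := hm; haveI := hmono; haveI := hs
  haveI := D.reductive.1
  haveI := D.reductive.2.1
  haveI : IsClosedImmersion iB.left := hB.2.1
  haveI : QuasiSeparated B.hom := by rw [← Over.w iB]; infer_instance
  haveI : ∀ k, IsMonHom (D.u k) := isMonHom_u D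
  haveI := SplitFib.isReduced_root D
  obtain ⟨R₀, hR₀, hiff⟩ := exists_roots D iB t ht hconn
  obtain ⟨s⟩ := (inferInstance : Nonempty S)
  obtain ⟨b, hb⟩ := exists_sides_of_solvable D iB t ht hconn hR₀ s (hB.2.2.2 s).2.2.2.2.1
  suffices hle : b.pos ⊆ R₀ by
    obtain rfl : R₀ = b.pos := subset_antisymm hb hle
    exact ⟨b, hR₀, fun k hk => (hiff k).1 hk⟩
  obtain ⟨m, epos, hpos⟩ := SplitFib.exists_enumerates b.pos
  obtain ⟨grp, hhom⟩ := exists_grpObj_borelMap D b hpos
  letI := grp; haveI := hhom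
  haveI : Mono (RedSub.borelMap D epos) := mono_borelMap D b hpos
  have hone : lift (𝟙 D.T) (tup fun _ => (1 : D.T ⟶ Red.Ga S)) ≫ RedSub.borelMap D epos = D.i := by
    rw [comp_borelMap, tup_one_rprod, _root_.mul_one, Category.id_comp]
  haveI := SplitCell.isMonHom_i D
  have hroot : ∀ k ∈ b.pos, ∃ w, w ≫ RedSub.borelMap D epos = D.u k := fun k hk => by
    obtain ⟨i, rfl⟩ := hpos.2.symm.subset hk
    obtain ⟨w, hw⟩ := exists_u_rprod D (e := epos) i
    exact ⟨lift 1 w, by rw [comp_borelMap, MonObj.one_comp, _root_.one_mul, hw]⟩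
  obtain ⟨f, hf⟩ := exists_le D iB t ht hconn hR₀ (fun k hk => (hiff k).1 hk) (RedSub.borelMap D epos) _ hone
    fun k hk => hroot k (hb hk)
  have hW := isBorel_borelMap D b hpos
  let K := AlgebraicClosure (S.residueField s)
  let ξ := Red.geomPt s
  haveI : IsMonHom ((Over.pullback ξ).map (RedSub.borelMap D epos)) := DiagRep.isMonHom_bc_map ξ _
  obtain ⟨-, hc', hs', hcon', hsol', -⟩ := hW.2.2.2 s
  haveI : IsIso ((Over.pullback ξ).map f) :=
    (hB.2.2.2 s).2.2.2.2.2 _ ((Over.pullback ξ).map (RedSub.borelMap D epos)) ((Over.pullback ξ).map f) hc' hs' hcon'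
      hsol' (by rw [← Functor.map_comp, hf])
  intro k hk
  rw [← hR₀ K ξ]
  intro r
  obtain ⟨w, hw⟩ := hroot k hk
  let z : aP ξ K ⟶ D.T ⊗ RedSub.pow (Red.Ga S) m := ptOf (cst ξ K r) ≫ w
  refine ⟨ofR ξ (toR ξ z ≫ inv ((Over.pullback ξ).map f)), ?_⟩
  have h0 := (comp_bc_eq ξ f (toR ξ z ≫ inv ((Over.pullback ξ).map f)) (toR ξ z)).1
    (by rw [Category.assoc, IsIso.inv_hom_id, Category.comp_id])
  rw [ofR_toR] at h0
  rw [← hf, ← Category.assoc, h0, Category.assoc, hw]
  rfl

/-- **The unipotent radical of a Borel subgroup containing the split torus.** -/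
theorem borel_radical (hB : Red.IsBorel iB) (t : D.T ⟶ B) (ht : t ≫ iB = D.i) {U : Over S} [GrpObj U] (uB : U ⟶ B)
    (hU : Par.IsUnipotentRadical uB) :
    ∃ b : Sides D.P, (∀ (K : Type u) [Field K] [IsAlgClosed K] (ξ : Spec (CommRingCat.of K) ⟶ S),
        rootsAt D iB ξ = b.pos) ∧
      (∀ k ∈ b.pos, ∃ w : Red.Ga S ⟶ B, w ≫ iB = D.u k) ∧ IsClosedImmersion (uB ≫ iB).left ∧
      ∀ {m : ℕ} (e : Fin m → D.idx), RedSub.Enumerates b.pos e →
        ∃ ψ : RedSub.pow (Red.Ga S) m ≅ U, ψ.hom ≫ uB ≫ iB = rprod D e := by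
  obtain ⟨hm, hmono, hs, hconn, hsub⟩ := borel_facts hB
  haveI := hm; haveI := hmono; haveI := hs
  haveI := SplitFib.isReduced_root D
  obtain ⟨b, hR, hfac⟩ := exists_sides_borel D hB t ht
  obtain ⟨hcl, m₀, e₀, ψ₀, he₀, hψ₀⟩ := exists_param D iB hsub t ht hconn hR hfac b subset_rfl uB hU
  refine ⟨b, hR, hfac, hcl, fun {m} e he => ?_⟩
  have hp : ∀ k, e₀ k ∈ b.pos := fun k => he₀.2.subset (Set.mem_range_self k)
  obtain ⟨φ, hφ⟩ := SplitCell.exists_iso b (SplitFib.isSatur_pos D b he₀) he₀.1 hp he.1 (he.2.trans he₀.2.symm)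
  exact ⟨φ ≪≫ ψ₀, by rw [Iso.trans_hom, Category.assoc, hψ₀, hφ]⟩

end Data

section Split

variable {S : Scheme.{u}} [ConnectedSpace S] {G U : Over S} [GrpObj G] (D : Red.SplitRed G) (b : Sides D.P) (j : U ⟶ G)
  (hpar : ∀ {m : ℕ} (e : Fin m → D.idx), RedSub.Enumerates b.pos e →
    ∃ ψ : RedSub.pow (Red.Ga S) m ≅ U, ψ.hom ≫ j = rprod D e)
include hpar

/-- **Splitting the coordinates of the positive unipotent group along a subset of the roots.** -/
theorem exists_split_param {A : Set D.idx} (hA : A ⊆ b.pos) {lC lA : ℕ} {eC : Fin lC → D.idx} {eA : Fin lA → D.idx}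
    (hC : RedSub.Enumerates (b.pos \ A) eC) (heA : RedSub.Enumerates A eA) :
    ∃ pt : RedSub.pow (Red.Ga S) lC ⊗ RedSub.pow (Red.Ga S) lA ≅ U,
      pt.hom ≫ j = (fst _ _ ≫ rprod D eC) * (snd _ _ ≫ rprod D eA) := by
  have h := enumerates_append hC heA Set.disjoint_sdiff_left
  rw [Set.sdiff_union_of_subset hA] at h
  obtain ⟨ψ, hψ⟩ := hpar _ h
  exact ⟨(powSplit lC lA).symm ≪≫ ψ, by
    rw [Iso.trans_hom, Iso.symm_hom, Category.assoc, hψ, powSplit_rprod]⟩

end Split

/-- Common positive roots form a saturated set in any order. -/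
theorem isSatur_inter {S : Scheme.{u}} {G : Over S} [GrpObj G] {D : Red.SplitRed G} (b b' : Sides D.P) {l : ℕ}
    {e : Fin l → D.idx} (he : RedSub.Enumerates (b.pos ∩ b'.pos) e) : IsSatur D e := by
  obtain ⟨f, hp, hn⟩ := b.regular
  obtain ⟨f', hp', hn'⟩ := b'.regular
  refine isSatur_of_closed b (Ψ := b.pos ∩ b'.pos) (fun i j k hi hj hk => ?_) (fun i hi => hp i hi.1) 1
    ⟨he.1, he.2.trans (Set.ext fun i => ⟨fun hi => ⟨hi, hp i hi.1⟩, fun hi => hi.1⟩)⟩
  refine ⟨(b.total k).resolve_right fun h => ?_, (b'.total k).resolve_right fun h => ?_⟩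
  · have h1 := hn k h
    rw [hk, map_add] at h1
    have := hp i hi.1
    have := hp j hj.1
    omega
  · have h1 := hn' k h
    rw [hk, map_add] at h1
    have := hp' i hi.2
    have := hp' j hj.2
    omega

/-- Over a field powers of `𝔾_a` are smooth and connected. -/
theorem smooth_connected_pow (k : Type u) [Field k] (n : ℕ) :
    Smooth (RedSub.pow (Red.Ga (Spec (CommRingCat.of k))) n).hom ∧
      ConnectedSpace (RedSub.pow (Red.Ga (Spec (CommRingCat.of k))) n).left := by
  haveI := smoothRel_pow (S := Spec (CommRingCat.of k)) n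
  refine ⟨SmoothOfRelativeDimension.smooth n _, ?_⟩
  let P := RedSub.pow (Red.Ga (Spec (CommRingCat.of k))) n
  haveI := connectedSpace_pow (K := k) (𝟙 (Spec (CommRingCat.of k))) n
  let π : (Red.bc (𝟙 (Spec (CommRingCat.of k))) P).left ⟶ P.left := pullback.fst P.hom _
  haveI : IsIso π := inferInstanceAs (IsIso (pullback.fst P.hom (𝟙 _)))
  exact π.surjective.connectedSpace π.continuous

section Component

variable {k : Type u} [Field k] {H : Over (Spec (CommRingCat.of k))} [GrpObj H] [Smooth H.hom]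

/-- **The identity component of a smooth group over a field, with the points factoring through it.** -/
theorem exists_open_component : ∃ (H₀ : Over (Spec (CommRingCat.of k))) (_ : GrpObj H₀) (i : H₀ ⟶ H),
    IsMonHom i ∧ IsClosedImmersion i.left ∧ Smooth H₀.hom ∧ GeometricallyIrreducible H₀.hom ∧
      ConnectedSpace H₀.left ∧ ∀ (Y : Over (Spec (CommRingCat.of k))) [GeometricallyConnected Y.hom]
        (e : 𝟙_ (Over (Spec (CommRingCat.of k))) ⟶ Y) (X : Over (Spec (CommRingCat.of k))) (c : X ⊗ Y ⟶ H),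
        lift (𝟙 X) (toUnit X ≫ e) ≫ c = 1 → ∃ l : X ⊗ Y ⟶ H₀, l ≫ i = c := by
  obtain ⟨H₀, hg, i, hi, hcl, hfl, hr, hgi, hcomp⟩ := GrpField.exists_identity_component (G := H)
  letI := hg; haveI := hi; haveI := hcl; haveI := hfl
  haveI : IsLocallyNoetherian H.left := LocallyOfFiniteType.isLocallyNoetherian H.hom
  haveI : LocallyOfFinitePresentation i.left := LocallyOfFinitePresentation.iff_locallyOfFiniteType.2 inferInstance
  haveI : IsOpenImmersion i.left := IsOpenImmersion.of_flat_of_mono i.left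
  haveI : Smooth H₀.hom := by rw [← Over.w i]; infer_instance
  haveI := hgi
  haveI : IrreducibleSpace H₀.left := GeometricallyIrreducible.irreducibleSpace_of_subsingleton H₀.hom
  refine ⟨H₀, hg, i, hi, hcl, inferInstance, hgi, inferInstance, fun Y _ e X c hc => ?_⟩
  have hopen : IsClopen (c.left ⁻¹' Set.range i.left) :=
    ⟨i.left.isClosedEmbedding.isClosed_range.preimage c.left.continuous,
      i.left.isOpenEmbedding.isOpen_range.preimage c.left.continuous⟩
  have hsub : Set.range c.left ⊆ Set.range i.left := by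
    rintro _ ⟨z, rfl⟩
    let x := (fst X Y).left z
    haveI : GeometricallyConnected (fst X Y).left := inferInstanceAs (GeometricallyConnected (pullback.fst X.hom Y.hom))
    let σ : X ⟶ X ⊗ Y := lift (𝟙 X) (toUnit X ≫ e)
    have hσx : (fst X Y).left (σ.left x) = x := by
      rw [← Scheme.Hom.comp_apply, ← Over.comp_left, lift_fst]
      rfl
    have hσ : c.left (σ.left x) ∈ Set.range i.left := by
      refine ⟨(1 : X ⟶ H₀).left x, ?_⟩
      rw [← Scheme.Hom.comp_apply, ← Over.comp_left, MonObj.one_comp, ← hc, Over.comp_left, Scheme.Hom.comp_apply]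
    exact ((fst X Y).left.isConnected_preimage_singleton x).isPreconnected.subset_isClopen hopen
      ⟨σ.left x, hσx, hσ⟩ (show (fst X Y).left z = x from rfl)
  exact ⟨Over.homMk (IsOpenImmersion.lift i.left c.left hsub) (by
    rw [← Over.w i, IsOpenImmersion.lift_fac_assoc, Over.w]), Over.OverMorphism.ext (IsOpenImmersion.lift_fac _ _ _)⟩

end Component

end RedSym

end
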