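import Groth.Agent.RedSymLib.Levi

/-!
# The trace of a subgroup on a product of positive root groups
-/

set_option autoImplicit false
set_option linter.style.haveILetI false
set_option linter.unusedSectionVars false
set_option backward.isDefEq.respectTransparency false
set_option maxHeartbeats 1000000
set_option synthInstance.maxHeartbeats 400000

universe u

open CategoryTheory CategoryTheory.Limits MonoidalCategory CartesianMonoidalCategory AlgebraicGeometry
open Groth.Agent.GaPts
open scoped MonObj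

noncomputable section

attribute [-instance] CategoryTheory.Hom.commGroup

namespace RedSym

open SplitCell SplitFib RootSubgrp

variable {S : Scheme.{u}} [ConnectedSpace S] {G : Over S} [GrpObj G] (D : Red.SplitRed G)

/-- The torus conjugates a product of root elements into the product of the moved elements. -/
theorem exists_conj_rprod {l : ℕ} (e : Fin l → D.idx) {X : Over S} (s : X ⟶ D.T)
    (x : X ⟶ RedSub.pow (Red.Ga S) l) : ∃ x' : X ⟶ RedSub.pow (Red.Ga S) l,
      (s ≫ D.i) * (x ≫ rprod D e) * (s ≫ D.i)⁻¹ = x' ≫ rprod D e := by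
  choose y hy _ using fun k : Fin l => (D.rootHom (e k)).2.2 X s (x ≫ prj S k)
  refine ⟨tup y, ?_⟩
  rw [← MulAut.conj_apply, prodMap_eq, prodMap_eq, map_list_prod, List.map_ofFn]
  refine congrArg List.prod (congrArg List.ofFn (funext fun k => ?_))
  rw [Function.comp_apply, MulAut.conj_apply, ← Category.assoc (tup y), tup_prj, hy k, Category.assoc]

/-- **The coordinates outside the roots of a subgroup of a point of it vanish.** -/
theorem tup_eq_one_of_mem {H : Over S} [GrpObj H] (h : H ⟶ G) [IsMonHom h] [Mono h] [Smooth H.hom] (t : D.T ⟶ H)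
    (ht : t ≫ h = D.i) (hconn : ∀ s : S, ConnectedSpace ↥(Red.geomFibre s H).left) {R₀ : Set D.idx}
    (hR₀ : ∀ (K : Type u) [Field K] [IsAlgClosed K] (ξ : Spec (CommRingCat.of K) ⟶ S), rootsAt D h ξ = R₀)
    (hfac : ∀ k ∈ R₀, ∃ w : Red.Ga S ⟶ H, w ≫ h = D.u k) (b : Sides D.P) {lC lA : ℕ} {eC : Fin lC → D.idx}
    {eA : Fin lA → D.idx} (heC : Function.Injective eC) (heA : Function.Injective eA) (hpC : ∀ k, eC k ∈ b.pos)
    (hpA : ∀ k, eA k ∈ b.pos) (hC : ∀ k, eC k ∉ R₀) (hA : ∀ k, eA k ∈ R₀) {X : Over S} (z : X ⟶ H)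
    (c : X ⟶ RedSub.pow (Red.Ga S) lC) (a : X ⟶ RedSub.pow (Red.Ga S) lA)
    (hz : z ≫ h = (c ≫ rprod D eC) * (a ≫ rprod D eA)) : c = tup (fun _ => (1 : X ⟶ Red.Ga S)) := by
  classical
  haveI := SplitFib.isReduced_root D
  haveI := isMonHom_i D
  haveI : ∀ k, IsMonHom (D.u k) := isMonHom_u D
  obtain ⟨n, m, eneg, epos, hneg, hpos, gn, gp⟩ := exists_good_sides D b (R := Set.univ)
  rw [Set.univ_inter] at hneg hpos
  obtain ⟨n', eN, hN⟩ := SplitFib.exists_enumerates (R₀ ∩ b.neg)
  obtain ⟨lB, eB, hB⟩ := SplitFib.exists_enumerates ((R₀ ∩ b.pos) \ Set.range eA)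
  have hP : RedSub.Enumerates (R₀ ∩ b.pos) (Fin.append eA eB) := by
    rw [show R₀ ∩ b.pos = Set.range eA ∪ ((R₀ ∩ b.pos) \ Set.range eA) by
      rw [Set.union_sdiff_self, Set.union_eq_right.2]
      rintro _ ⟨k, rfl⟩
      exact ⟨hA k, hpA k⟩]
    exact enumerates_append ⟨heA, rfl⟩ hB Set.disjoint_sdiff_right
  obtain ⟨f, g, hg, hf⟩ := exists_cell D b h t ht hconn hR₀ hfac hneg hpos gn gp hN hP
  -- the point lies in the big cell
  have hCA : ∀ k, Fin.append eC eA k ∈ b.pos := fun k => Fin.addCases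
    (fun i => by rw [Fin.append_left]; exact hpC i) (fun i => by rw [Fin.append_right]; exact hpA i) k
  obtain ⟨y, hy⟩ := exists_reorder D b hpos hCA
  let p : X ⟶ src D n m := lift (tup fun _ => 1) (lift 1 (lift c a ≫ (powSplit lC lA).inv ≫ y))
  have hpc : p ≫ RedSub.cellMap D eneg epos = (c ≫ rprod D eC) * (a ≫ rprod D eA) := by
    simp only [p, RedSub.cellMap, MonObj.comp_mul, lift_fst_assoc, lift_snd_assoc, MonObj.one_comp]
    rw [show (tup fun _ => (1 : X ⟶ Red.Ga S)) ≫ RedSub.prodMap (Red.Ga S) n (fun k => D.u (eneg k)) = 1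
      from tup_one_rprod D eneg, _root_.one_mul, _root_.one_mul, Category.assoc, Category.assoc, hy, powSplit_rprod,
      MonObj.comp_mul, lift_fst_assoc, lift_snd_assoc]
  let q : X ⟶ hCell D h eneg epos := pullback.lift z p (hz.trans hpc.symm)
  let d : X ⟶ src D n' (lA + lB) := q ≫ g.inv
  have hd : d ≫ RedSub.cellMap D eN (Fin.append eA eB) = (c ≫ rprod D eC) * (a ≫ rprod D eA) := by
    rw [← hf, ← hg]
    simp only [d, q, Category.assoc, Iso.inv_hom_id_assoc]
    rw [pullback.lift_fst_assoc, hz]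
  -- one chart containing both expressions
  have hpall : ∀ k, Fin.append eC (Fin.append eA eB) k ∈ b.pos := fun k => Fin.addCases
    (fun i => by rw [Fin.append_left]; exact hpC i)
    (fun i => by rw [Fin.append_right]; exact (hP.2.subset (Set.mem_range_self i)).2) k
  have hinj : Function.Injective (Fin.append eC (Fin.append eA eB)) := by
    refine (enumerates_append (⟨heC, rfl⟩ : RedSub.Enumerates (Set.range eC) eC) hP
      (Set.disjoint_left.2 fun k hk hk' => ?_)).1
    obtain ⟨i, rfl⟩ := hk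
    exact hC i hk'.1
  haveI : Mono (RedSub.cellMap D eN (Fin.append eC (Fin.append eA eB))) :=
    mono_cellMap' D b hN.1 (fun i => (hN.2.subset (Set.mem_range_self i)).2) hinj hpall
  let w₁ : X ⟶ src D n' (lC + (lA + lB)) := lift (d ≫ fst _ _)
    (lift (d ≫ snd _ _ ≫ fst _ _) (lift (tup fun _ => 1) (d ≫ snd _ _ ≫ snd _ _) ≫ (powSplit lC (lA + lB)).inv))
  let w₂ : X ⟶ src D n' (lC + (lA + lB)) := lift (tup fun _ => 1) (lift 1
    (lift c (lift a (tup fun _ => 1) ≫ (powSplit lA lB).inv) ≫ (powSplit lC (lA + lB)).inv))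
  have hAB : (powSplit lC (lA + lB)).inv ≫ RedSub.prodMap (Red.Ga S) (lC + (lA + lB))
      (fun k => D.u (Fin.append eC (Fin.append eA eB) k)) =
        (fst _ _ ≫ rprod D eC) * (snd _ _ ≫ rprod D (Fin.append eA eB)) := powSplit_rprod _ _
  have e1 : w₁ ≫ RedSub.cellMap D eN (Fin.append eC (Fin.append eA eB)) = (c ≫ rprod D eC) * (a ≫ rprod D eA) := by
    rw [← hd]
    simp only [w₁, RedSub.cellMap, MonObj.comp_mul, lift_fst_assoc, lift_snd_assoc, Category.assoc]
    rw [hAB, MonObj.comp_mul, lift_fst_assoc, lift_snd_assoc,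
      show (tup fun _ => (1 : X ⟶ Red.Ga S)) ≫ rprod D eC = 1 from tup_one_rprod D eC, _root_.one_mul]
    simp only [d, Category.assoc]
  have e2 : w₂ ≫ RedSub.cellMap D eN (Fin.append eC (Fin.append eA eB)) = (c ≫ rprod D eC) * (a ≫ rprod D eA) := by
    simp only [w₂, RedSub.cellMap, MonObj.comp_mul, lift_fst_assoc, lift_snd_assoc, MonObj.one_comp, Category.assoc]
    rw [show (tup fun _ => (1 : X ⟶ Red.Ga S)) ≫ RedSub.prodMap (Red.Ga S) n' (fun k => D.u (eN k)) = 1 from
      tup_one_rprod D eN, hAB, MonObj.comp_mul, lift_fst_assoc, lift_snd_assoc, Category.assoc, powSplit_rprod,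
      MonObj.comp_mul, lift_fst_assoc, lift_snd_assoc,
      show (tup fun _ => (1 : X ⟶ Red.Ga S)) ≫ rprod D eB = 1 from tup_one_rprod D eB]
    simp only [_root_.one_mul, _root_.mul_one]
  have h12 : w₁ = w₂ :=
    (cancel_mono (RedSub.cellMap D eN (Fin.append eC (Fin.append eA eB)))).1 (e1.trans e2.symm)
  have h3 := congrArg (fun w : X ⟶ src D n' (lC + (lA + lB)) =>
    w ≫ snd _ _ ≫ snd _ _ ≫ (powSplit lC (lA + lB)).hom ≫ fst _ _) h12
  simp only [w₁, w₂, lift_snd_assoc, Category.assoc, Iso.inv_hom_id_assoc, lift_fst] at h3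
  exact h3.symm

end RedSym

end
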