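import Groth.Agent.RootSys.Lengths
import Groth.Agent.RootSys.PMorph
import Groth.Agent.BruhatLib.IsogBase

/-!
# Exponents of isogenies of irreducible root data
-/

set_option autoImplicit false

universe u

namespace RedSym.IsogExp

open RootPairing RootBasicLib RootSysLib

variable {idx idx' M M' : Type u} [AddCommGroup M] [AddCommGroup M'] [Finite idx] [Finite idx']
  {P : RootPairing idx ℤ M (Module.Dual ℤ M)} {P' : RootPairing idx' ℤ M' (Module.Dual ℤ M')}
  [P.IsReduced] [P'.IsReduced] {p : ℕ}

omit [Finite idx] [Finite idx'] [P.IsReduced] [P'.IsReduced] in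
/-- The exponents transport the Cartan integers. -/
theorem pairing_rel (hP : P.toLinearMap = Module.Dual.eval ℤ M) (hP' : P'.toLinearMap = Module.Dual.eval ℤ M')
    (φ : AGF.RootIsog P P' p) (i j : idx) :
    (φ.q i : ℤ) * P.pairing i j = (φ.q j : ℤ) * P'.pairing (φ.e i) (φ.e j) := by
  have h := LinearMap.congr_fun (φ.coroot j) (P'.root (φ.e i))
  rw [LinearMap.comp_apply, φ.root, map_smul, LinearMap.smul_apply, smul_eq_mul, smul_eq_mul] at h
  have e1 : P.pairing i j = P.coroot j (P.root i) := by
    show P.toLinearMap (P.root i) (P.coroot j) = _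
    rw [hP]; rfl
  have e2 : P'.pairing (φ.e i) (φ.e j) = P'.coroot (φ.e j) (P'.root (φ.e i)) := by
    show P'.toLinearMap (P'.root (φ.e i)) (P'.coroot (φ.e j)) = _
    rw [hP']; rfl
  rw [e1, e2]
  exact h

omit [Finite idx] [P.IsReduced] in
/-- The exponents are invariant under reflections. -/
theorem q_reflection (hP : P.toLinearMap = Module.Dual.eval ℤ M) (hP' : P'.toLinearMap = Module.Dual.eval ℤ M')
    (φ : AGF.RootIsog P P' p) (k i : idx) : φ.q (P.reflectionPerm k i) = φ.q i := by
  set j := P.reflectionPerm k i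
  have h0 : ∀ a, φ.q a ≠ 0 := Bruhat.rootIsog_q_ne_zero φ
  have hx : φ.f (P'.root (P'.reflectionPerm (φ.e k) (φ.e i))) = (φ.q i : ℤ) • P.root j := by
    have hj : P.root j = P.root i - P.pairing i k • P.root k := by
      rw [P.root_reflectionPerm, P.reflection_apply_root]
    rw [P'.root_reflectionPerm, P'.reflection_apply_root, map_sub, map_zsmul, φ.root, φ.root, hj, smul_sub,
      smul_smul, smul_smul, mul_comm (P'.pairing _ _), pairing_rel hP hP' φ i k]
  have he : (φ.q i : ℤ) • P'.root (φ.e j) = (φ.q j : ℤ) • P'.root (P'.reflectionPerm (φ.e k) (φ.e i)) := by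
    refine φ.injective ?_
    rw [map_zsmul, map_zsmul, hx, φ.root, smul_smul, smul_smul, mul_comm]
  set l := P'.reflectionPerm (φ.e k) (φ.e i)
  have hdep : ¬ LinearIndependent ℤ ![P'.root (φ.e j), P'.root l] := fun h => by
    have := (LinearIndependent.pair_iff.1 h (φ.q i : ℤ) (-(φ.q j : ℤ))
      (by rw [neg_smul, he, add_neg_cancel])).1
    exact h0 i (by exact_mod_cast this)
  rcases IsReduced.eq_or_eq_neg (P := P') (φ.e j) l hdep with e | e
  · rw [e] at he
    exact_mod_cast (smul_left_inj P' (P'.ne_zero l) he).symm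
  · rw [e, smul_neg, ← neg_smul] at he
    have := smul_left_inj P' (P'.ne_zero l) he
    have h1 := h0 i
    omega

omit [P.IsReduced] in
/-- The exponents are invariant under the Weyl group. -/
theorem q_smul (hP : P.toLinearMap = Module.Dual.eval ℤ M) (hP' : P'.toLinearMap = Module.Dual.eval ℤ M')
    (φ : AGF.RootIsog P P' p) {g : P.Aut} (hg : g ∈ P.weylGroup) (i : idx) : φ.q (g • i) = φ.q i := by
  induction hg using RootPairing.weylGroup.induction generalizing i with
  | mem k => rw [reflection_smul_idx]; exact q_reflection hP hP' φ k i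
  | one => rw [one_smul]
  | mul g h _ _ ihg ihh => rw [mul_smul, ihg, ihh]

omit [Finite idx'] [P'.IsReduced] in
/-- Length ratios of non-orthogonal roots in a reduced datum. -/
theorem ratio_cases {i j : idx} (h : ¬ P.IsOrthogonal i j) :
    bform P (P.root i) (P.root i) = bform P (P.root j) (P.root j) ∨
      ∃ r : ℤ, (r = 2 ∨ r = 3) ∧ (bform P (P.root i) (P.root i) = r * bform P (P.root j) (P.root j) ∨
        bform P (P.root j) (P.root j) = r * bform P (P.root i) (P.root i)) := by
  have key : ∀ i j : idx, ¬ P.IsOrthogonal i j →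
      bform P (P.root i) (P.root i) ≤ bform P (P.root j) (P.root j) →
      bform P (P.root i) (P.root i) = bform P (P.root j) (P.root j) ∨
      ∃ r : ℤ, (r = 2 ∨ r = 3) ∧ bform P (P.root j) (P.root j) = r * bform P (P.root i) (P.root i) := by
    intro i j hij hle
    obtain ⟨q, h1, h4, hq, hq4⟩ := length_ratio hij hle
    rcases (show q = 1 ∨ q = 4 ∨ q = 2 ∨ q = 3 by omega) with rfl | rfl | h23
    · exact Or.inl (by rw [hq, one_mul])
    · left
      have hw := hq4 rfl
      have e1 := two_bform_root (P := P) i j
      have e2 := two_bform_root (P := P) j i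
      rw [bform_symm P (P.root j) (P.root i)] at e2
      have hdep := dependent_of_cauchy_eq (P := P) (i := i) (j := j) (by
        have e12 : (2 * bform P (P.root i) (P.root j)) * (2 * bform P (P.root i) (P.root j)) =
            (bform P (P.root j) (P.root j) * P.pairing i j) * (bform P (P.root i) (P.root i) * P.pairing j i) := by
          nth_rewrite 1 [e1]
          rw [e2]
        have e3 : (bform P (P.root j) (P.root j) * P.pairing i j) * (bform P (P.root i) (P.root i) * P.pairing j i) =
            4 * (bform P (P.root i) (P.root i) * bform P (P.root j) (P.root j)) := by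
          linear_combination (bform P (P.root j) (P.root j) * bform P (P.root i) (P.root i)) * hw
        linarith)
      rcases IsReduced.eq_or_eq_neg (P := P) i j hdep with e | e
      · rw [e]
      · rw [e]; simp
    · exact Or.inr ⟨q, h23, hq⟩
  rcases le_total (bform P (P.root i) (P.root i)) (bform P (P.root j) (P.root j)) with hle | hle
  · rcases key i j h hle with e | ⟨r, hr, e⟩
    · exact Or.inl e
    · exact Or.inr ⟨r, hr, Or.inr e⟩
  · rcases key j i (fun ho => h ⟨ho.2, ho.1⟩) hle with e | ⟨r, hr, e⟩
    · exact Or.inl e.symm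
    · exact Or.inr ⟨r, hr, Or.inl e⟩

/-- **A long root of an edge has exponent one as soon as some exponent is one.** -/
theorem q_long_eq_one (hP : P.toLinearMap = Module.Dual.eval ℤ M) (hP' : P'.toLinearMap = Module.Dual.eval ℤ M')
    (hp : p.Prime) (φ : AGF.RootIsog P P' p) (hlink : ∀ i j : idx, Linked P i j) {a b c : idx}
    (hab : P.pairing a b = -(p : ℤ)) (hba : P.pairing b a = -1) (hc : φ.q c = 1) : φ.q a = 1 := by
  have hsuff : φ.q b = 1 → φ.q a = 1 := by
    intro hb
    have h := pairing_rel hP hP' φ b a
    rw [hb, hba, Nat.cast_one, one_mul] at h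
    have h1 : (φ.q a : ℤ) ∣ 1 := ⟨-P'.pairing (φ.e b) (φ.e a), by rw [mul_neg, ← h]; ring⟩
    exact_mod_cast Int.eq_one_of_dvd_one (by positivity) h1
  have hla := bform_root_pos P a
  have hlb := bform_root_pos P b
  have hlc := bform_root_pos P c
  have hL : bform P (P.root a) (P.root a) = p * bform P (P.root b) (P.root b) := by
    have h := pairing_mul_length (P := P) a b
    rw [hab, hba] at h
    linarith
  have hp3 : (p : ℤ) = 2 ∨ (p : ℤ) = 3 := by
    have h4 := coxeterWeight_le_four (P := P) a b
    rw [hab, hba] at h4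
    have h2 := hp.two_le
    have hp4 : p ≠ 4 := fun h => absurd (h ▸ hp : Nat.Prime 4) (by decide)
    omega
  have hlen : ∀ g : P.Aut, bform P (P.root (g • c)) (P.root (g • c)) = bform P (P.root c) (P.root c) := fun g => by
    rw [root_smul, bform_smul]
  obtain ⟨g, hg, hga⟩ := exists_conj_not_orth (hlink a c)
  obtain ⟨h', hh, hhb⟩ := exists_conj_not_orth (hlink b c)
  rcases ratio_cases hga with ea | ⟨r, hr, er⟩
  · obtain ⟨w, hw, hwe⟩ := exists_conj_of_eq_length hga ea
    have := q_smul hP hP' φ hw a
    rw [hwe, q_smul hP hP' φ hg, hc] at this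
    exact this.symm
  rcases ratio_cases hhb with eb | ⟨s, hs, es⟩
  · obtain ⟨w, hw, hwe⟩ := exists_conj_of_eq_length hhb eb
    have := q_smul hP hP' φ hw b
    rw [hwe, q_smul hP hP' φ hh, hc] at this
    exact hsuff this.symm
  rw [hlen] at er es
  exfalso
  rcases hp3 with hp3 | hp3 <;> rw [hp3] at hL <;> rcases hr with rfl | rfl <;> rcases hs with rfl | rfl <;>
    rcases er with er | er <;> rcases es with es | es <;> omega

end RedSym.IsogExp
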