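import Groth.Agent.RootSubgrpLib.UnipNorm
import Groth.Agent.RootSubgrpLib.UnipCase
import Groth.Agent.RootSubgrpLib.Incl
import Groth.Agent.UnipTorusLib.Trivial
import Groth.Agent.BruhatLib.Ux

/-!
# Ingredients of the Levi decomposition of a subgroup with a closed set of roots
-/

set_option autoImplicit false
set_option linter.style.haveILetI false
set_option linter.unusedSectionVars false
set_option backward.isDefEq.respectTransparency false
set_option maxHeartbeats 1000000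
set_option synthInstance.maxHeartbeats 400000

universe u

open CategoryTheory CategoryTheory.Limits MonoidalCategory CartesianMonoidalCategory AlgebraicGeometry
open Groth.Agent.GaPts
open scoped MonObj

noncomputable section

attribute [-instance] CategoryTheory.Hom.commGroup

namespace RedSym

open SplitCell SplitFib RootSubgrp

variable {S : Scheme.{u}} [ConnectedSpace S] {G : Over S} [GrpObj G] (D : Red.SplitRed G)

theorem tup_one_rprod {l : ℕ} (e : Fin l → D.idx) {X : Over S} :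
    (tup fun _ => (1 : X ⟶ Red.Ga S)) ≫ rprod D e = 1 :=
  rprod_eq_one e _ fun k => tup_prj _ k

section Normal

variable {R : Set D.idx} (hcl : ∀ a b c : D.idx, a ∈ R → b ∈ R → D.P.root a + D.P.root b = D.P.root c → c ∈ R)
  {l : ℕ} {e : Fin l → D.idx} (he : RedSub.Enumerates R e)
  [GrpObj (RedSub.pow (Red.Ga S) l)] [IsMonHom (rprod D e)]
include hcl he

/-- The elements conjugating the product of root groups into itself. -/
def Stab' {X : Over S} (g : X ⟶ G) : Prop :=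
  ∀ x : X ⟶ RedSub.pow (Red.Ga S) l, ∃ x' : X ⟶ RedSub.pow (Red.Ga S) l,
    g * (x ≫ rprod D e) * g⁻¹ = x' ≫ rprod D e

omit hcl in
theorem exists_lift_u {k : D.idx} (hk : k ∈ R) {X : Over S} (z : X ⟶ Red.Ga S) :
    ∃ x : X ⟶ RedSub.pow (Red.Ga S) l, x ≫ rprod D e = z ≫ D.u k := by
  obtain ⟨i, rfl⟩ := he.2.symm.subset hk
  obtain ⟨w, hw⟩ := exists_u_rprod D i
  exact ⟨z ≫ w, by rw [Category.assoc, hw]⟩

omit hcl in
theorem ux_le_range {X : Over S} {g : X ⟶ G} (hg : g ∈ Bruhat.Ux D R X) :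
    ∃ x : X ⟶ RedSub.pow (Red.Ga S) l, x ≫ rprod D e = g := by
  let Φ : (X ⟶ RedSub.pow (Red.Ga S) l) →* (X ⟶ G) :=
    MonoidHom.mk' (fun z => z ≫ rprod D e) fun z z' => MonObj.mul_comp _ _ _
  exact MonoidHom.mem_range.1 (Bruhat.ux_le (P := Φ.range) (fun k hk z =>
    MonoidHom.mem_range.2 (exists_lift_u D he hk z)) hg)

omit hcl in
theorem stab_torus {X : Over S} (s : X ⟶ D.T) : Stab' D (e := e) (s ≫ D.i) := fun x => by
  obtain ⟨x', hx'⟩ := ux_le_range D he (Bruhat.conj_torus_mem s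
    (Bruhat.rprod_mem e (fun i => he.2.subset (Set.mem_range_self i)) x))
  exact ⟨x', hx'.symm⟩

theorem stab_root {β : D.idx} (hmix : ∀ a c : D.idx, a ∈ R → D.P.root a + D.P.root β = D.P.root c → c ∈ R)
    (hopp : ∀ α ∈ R, β ≠ D.P.reflectionPerm α α) {X : Over S} (y : X ⟶ Red.Ga S) :
    Stab' D (e := e) (y ≫ D.u β) := by
  classical
  haveI : ∀ k, IsMonHom (D.u k) := isMonHom_u D
  let Φ : (X ⟶ RedSub.pow (Red.Ga S) l) →* (X ⟶ G) :=
    MonoidHom.mk' (fun z => z ≫ rprod D e) fun z z' => MonObj.mul_comp _ _ _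
  have hP : ∀ k ∈ R, ∀ z : X ⟶ Red.Ga S, z ≫ D.u k ∈ Φ.range := fun k hk z =>
    MonoidHom.mem_range.2 (exists_lift_u D he hk z)
  intro x
  suffices hx : MulAut.conj (y ≫ D.u β) (x ≫ rprod D e) ∈ Φ.range by
    obtain ⟨x', hx'⟩ := MonoidHom.mem_range.1 hx
    exact ⟨x', hx'.symm⟩
  rw [prodMap_eq, map_list_prod, List.map_ofFn]
  refine Subgroup.list_prod_mem _ fun z hz => ?_
  obtain ⟨i, rfl⟩ := List.mem_ofFn.1 hz
  rw [Function.comp_apply, MulAut.conj_apply, ← Category.assoc]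
  exact conj_u_mem D hcl (he.2.subset (Set.mem_range_self i)) hmix (hopp _ (he.2.subset (Set.mem_range_self i)))
    Φ.range hP _ y

/-- **A product of root groups stable under the roots of a subgroup is normalised by it.** -/
theorem stab_of_roots [IsClosedImmersion (rprod D e).left] {H : Over S} [GrpObj H] (h : H ⟶ G) [IsMonHom h] [Mono h]
    [Smooth H.hom] [QuasiSeparated H.hom] (t : D.T ⟶ H) (ht : t ≫ h = D.i)
    (hconn : ∀ s : S, ConnectedSpace ↥(Red.geomFibre s H).left) {R₁ : Set D.idx}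
    (hR₁ : ∀ (K : Type u) [Field K] [IsAlgClosed K] (ξ : Spec (CommRingCat.of K) ⟶ S), rootsAt D h ξ = R₁)
    (hfac : ∀ k ∈ R₁, ∃ w : Red.Ga S ⟶ H, w ≫ h = D.u k)
    (hmix : ∀ β ∈ R₁, ∀ a c : D.idx, a ∈ R → D.P.root a + D.P.root β = D.P.root c → c ∈ R)
    (hopp : ∀ β ∈ R₁, ∀ α ∈ R, β ≠ D.P.reflectionPerm α α) {X : Over S} (y : X ⟶ H) :
    Stab' D (e := e) (y ≫ h) := by
  classical
  haveI := SplitFib.isReduced_root D
  haveI := isMonHom_i D
  haveI : ∀ k, IsMonHom (D.u k) := isMonHom_u D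
  obtain ⟨σ⟩ := exists_sides D.P
  obtain ⟨n, m, eneg, epos, hneg, hpos, gn, gp⟩ := exists_good_sides D σ (R := Set.univ)
  rw [Set.univ_inter] at hneg hpos
  obtain ⟨n', eN, hN⟩ := SplitFib.exists_enumerates (R₁ ∩ σ.neg)
  obtain ⟨m', eP, hP⟩ := SplitFib.exists_enumerates (R₁ ∩ σ.pos)
  obtain ⟨f, g, hg, hf⟩ := exists_cell D σ h t ht hconn hR₁ hfac hneg hpos gn gp hN hP
  have hmul : ∀ {Y : Over S} {a c : Y ⟶ G}, Stab' D (e := e) a → Stab' D (e := e) c → Stab' D (e := e) (a * c) := by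
    intro Y a c ha hc x
    obtain ⟨x₁, h₁⟩ := hc x
    obtain ⟨x₂, h₂⟩ := ha x₁
    exact ⟨x₂, by rw [← h₂, ← h₁]; group⟩
  have hone : ∀ {Y : Over S}, Stab' D (e := e) (1 : Y ⟶ G) := fun {Y} x => ⟨x, by group⟩
  have hlist : ∀ {Y : Over S} (L : List (Y ⟶ G)), (∀ a ∈ L, Stab' D (e := e) a) → Stab' D (e := e) L.prod := by
    intro Y L
    induction L with
    | nil => intro _; rw [List.prod_nil]; exact hone
    | cons a L ih =>
      intro hl
      rw [List.prod_cons]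
      exact hmul (hl a (List.mem_cons_self ..)) (ih fun c hc => hl c (List.mem_cons_of_mem _ hc))
  have hprod : ∀ {Y : Over S} {k : ℕ} (e' : Fin k → D.idx), (∀ i, e' i ∈ R₁) → ∀ c : Y ⟶ RedSub.pow (Red.Ga S) k,
      Stab' D (e := e) (c ≫ rprod D e') := by
    intro Y k e' hl c
    rw [prodMap_eq]
    refine hlist _ fun a ha => ?_
    obtain ⟨i, rfl⟩ := List.mem_ofFn.1 ha
    rw [← Category.assoc]
    exact stab_root D hcl he (hmix _ (hl i)) (hopp _ (hl i)) _
  have hcell : ∀ {Y : Over S} (o : Y ⟶ src D n' m'), Stab' D (e := e) (o ≫ f ≫ h) := by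
    intro Y o
    have h' : o ≫ f ≫ h = ((o ≫ fst _ _) ≫ rprod D eN) *
        (((o ≫ snd _ _ ≫ fst _ _) ≫ D.i) * ((o ≫ snd _ _ ≫ snd _ _) ≫ rprod D eP)) := by
      rw [hf, RedSub.cellMap, MonObj.comp_mul, MonObj.comp_mul]
      simp only [Category.assoc]
    rw [h']
    exact hmul (hprod eN (fun i => (hN.2.subset (Set.mem_range_self i)).1) _)
      (hmul (stab_torus D he _) (hprod eP (fun i => (hP.2.subset (Set.mem_range_self i)).1) _))
  let O := src D n' m'
  haveI : IsAffineHom O.hom := by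
    haveI := isAffineHom_pow (S := S) n'
    haveI := isAffineHom_src D m'
    haveI : IsAffineHom (pullback.fst (RedSub.pow (Red.Ga S) n').hom (D.T ⊗ RedSub.pow (Red.Ga S) m').hom) :=
      MorphismProperty.pullback_fst (P := @IsAffineHom) _ _ inferInstance
    show IsAffineHom (pullback.fst _ (D.T ⊗ RedSub.pow (Red.Ga S) m').hom ≫ _)
    infer_instance
  haveI : IsOpenImmersion f.left := by
    haveI := isOpenImmersion_fst D h eneg epos σ hneg hpos
    haveI : IsIso g.hom.left := inferInstanceAs (IsIso ((Over.forget S).map g.hom))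
    rw [← hg, Over.comp_left]
    infer_instance
  let ε : 𝟙_ (Over S) ⟶ O := lift (tup fun _ => 1) (lift 1 (tup fun _ => 1))
  have hε : ε ≫ f = η[H] := by
    rw [← cancel_mono h, IsMonHom.one_hom, Category.assoc, hf]
    simp only [ε, RedSub.cellMap, MonObj.comp_mul, lift_fst_assoc, lift_snd_assoc, MonObj.one_comp]
    rw [show (tup fun _ => (1 : 𝟙_ (Over S) ⟶ Red.Ga S)) ≫ RedSub.prodMap (Red.Ga S) n' (fun k => D.u (eN k)) = 1
      from tup_one_rprod D eN, show (tup fun _ => (1 : 𝟙_ (Over S) ⟶ Red.Ga S)) ≫ RedSub.prodMap (Red.Ga S) m'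
      (fun k => D.u (eP k)) = 1 from tup_one_rprod D eP]
    simp only [_root_.mul_one]
    rw [MonObj.one_eq_one]
  haveI : GeometricallyConnected H.hom := Groth.Agent.WeilRes.geometricallyConnected_of_geomPt H.hom hconn
  let c : H ⊗ RedSub.pow (Red.Ga S) l ⟶ G := (fst H _ ≫ h) * (snd H _ ≫ rprod D e) * (fst H _ ≫ h)⁻¹
  obtain ⟨w, hw⟩ : ∃ w, w ≫ rprod D e = (((f ⊗ₘ f) ≫ μ[H]) ▷ RedSub.pow (Red.Ga S) l) ≫ c := by
    obtain ⟨w, hw⟩ := hmul (hcell (fst (O ⊗ O) (RedSub.pow (Red.Ga S) l) ≫ fst O O))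
      (hcell (fst (O ⊗ O) (RedSub.pow (Red.Ga S) l) ≫ snd O O)) (snd (O ⊗ O) (RedSub.pow (Red.Ga S) l))
    refine ⟨w, ?_⟩
    rw [← hw]
    simp only [c, MonObj.comp_mul, GrpObj.comp_inv, whiskerRight_fst_assoc, whiskerRight_snd_assoc,
      MonObj.mul_eq_mul, MonObj.mul_comp, Category.assoc, tensorHom_fst_assoc, tensorHom_snd_assoc, O]
  obtain ⟨q, hq⟩ := factor_of_chart (B := RedSub.pow (Red.Ga S) l) O f ε hε c (rprod D e) w hw
  intro x
  refine ⟨lift y x ≫ q, ?_⟩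
  rw [Category.assoc, hq]
  simp only [c, MonObj.comp_mul, GrpObj.comp_inv, lift_fst_assoc, lift_snd_assoc]

end Normal

/-- **A product of root groups outside the roots of a subgroup meets it trivially.** -/
theorem eq_one_of_inter {H : Over S} [GrpObj H] (h : H ⟶ G) [IsMonHom h] [Mono h] [Smooth H.hom] (t : D.T ⟶ H)
    (ht : t ≫ h = D.i) (hconn : ∀ s : S, ConnectedSpace ↥(Red.geomFibre s H).left) {R₀ : Set D.idx}
    (hR₀ : ∀ (K : Type u) [Field K] [IsAlgClosed K] (ξ : Spec (CommRingCat.of K) ⟶ S), rootsAt D h ξ = R₀)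
    (hfac : ∀ k ∈ R₀, ∃ w : Red.Ga S ⟶ H, w ≫ h = D.u k) (b : Sides D.P) {l : ℕ} {e : Fin l → D.idx}
    (he : Function.Injective e) (hp : ∀ k, e k ∈ b.pos) (hd : ∀ k, e k ∉ R₀) {X : Over S} (z : X ⟶ H)
    (x : X ⟶ RedSub.pow (Red.Ga S) l) (hzx : z ≫ h = x ≫ rprod D e) : x ≫ rprod D e = 1 := by
  classical
  haveI := SplitFib.isReduced_root D
  haveI := isMonHom_i D
  haveI : ∀ k, IsMonHom (D.u k) := isMonHom_u D
  obtain ⟨n, m, eneg, epos, hneg, hpos, gn, gp⟩ := exists_good_sides D b (R := Set.univ)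
  rw [Set.univ_inter] at hneg hpos
  obtain ⟨n', eN, hN⟩ := SplitFib.exists_enumerates (R₀ ∩ b.neg)
  obtain ⟨m', eP, hP⟩ := SplitFib.exists_enumerates (R₀ ∩ b.pos)
  obtain ⟨f, g, hg, hf⟩ := exists_cell D b h t ht hconn hR₀ hfac hneg hpos gn gp hN hP
  obtain ⟨y, hy⟩ := exists_reorder D b hpos hp
  let p : X ⟶ src D n m := lift (tup fun _ => 1) (lift 1 (x ≫ y))
  have hpc : p ≫ RedSub.cellMap D eneg epos = x ≫ rprod D e := by
    simp only [p, RedSub.cellMap, MonObj.comp_mul, lift_fst_assoc, lift_snd_assoc, MonObj.one_comp]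
    rw [show (tup fun _ => (1 : X ⟶ Red.Ga S)) ≫ RedSub.prodMap (Red.Ga S) n (fun k => D.u (eneg k)) = 1
      from tup_one_rprod D eneg, _root_.one_mul, _root_.one_mul, Category.assoc, hy]
  let q : X ⟶ hCell D h eneg epos := pullback.lift z p (hzx.trans hpc.symm)
  let c : X ⟶ src D n' m' := q ≫ g.inv
  have hc : c ≫ RedSub.cellMap D eN eP = x ≫ rprod D e := by
    rw [← hf, ← hg]
    simp only [c, q, Category.assoc, Iso.inv_hom_id_assoc]
    rw [pullback.lift_fst_assoc, hzx]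
  have hPp : ∀ k, Fin.append eP e k ∈ b.pos := fun k => Fin.addCases
    (fun i => by rw [Fin.append_left]; exact (hP.2.subset (Set.mem_range_self i)).2)
    (fun i => by rw [Fin.append_right]; exact hp i) k
  have hinj : Function.Injective (Fin.append eP e) := by
    refine (enumerates_append hP (⟨he, rfl⟩ : RedSub.Enumerates (Set.range e) e)
      (Set.disjoint_left.2 fun k hk hk' => ?_)).1
    obtain ⟨i, rfl⟩ := hk'
    exact hd i hk.1
  haveI : Mono (RedSub.cellMap D eN (Fin.append eP e)) :=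
    mono_cellMap' D b hN.1 (fun i => (hN.2.subset (Set.mem_range_self i)).2) hinj hPp
  let w₁ : X ⟶ src D n' (m' + l) := lift (c ≫ fst _ _)
    (lift (c ≫ snd _ _ ≫ fst _ _) (lift (c ≫ snd _ _ ≫ snd _ _) (tup fun _ => 1) ≫ (powSplit m' l).inv))
  let w₂ : X ⟶ src D n' (m' + l) := lift (tup fun _ => 1) (lift 1 (lift (tup fun _ => 1) x ≫ (powSplit m' l).inv))
  have e1 : w₁ ≫ RedSub.cellMap D eN (Fin.append eP e) = x ≫ rprod D e := by
    rw [← hc]
    simp only [w₁, RedSub.cellMap, MonObj.comp_mul, lift_fst_assoc, lift_snd_assoc, Category.assoc]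
    congr 2
    rw [show (powSplit m' l).inv ≫ RedSub.prodMap (Red.Ga S) (m' + l) (fun k => D.u (Fin.append eP e k)) = _ from
      powSplit_rprod eP e, MonObj.comp_mul, lift_fst_assoc, lift_snd_assoc,
      show (tup fun _ => (1 : X ⟶ Red.Ga S)) ≫ rprod D e = 1 from tup_one_rprod D e, _root_.mul_one]
    simp only [c, Category.assoc]
  have e2 : w₂ ≫ RedSub.cellMap D eN (Fin.append eP e) = x ≫ rprod D e := by
    simp only [w₂, RedSub.cellMap, MonObj.comp_mul, lift_fst_assoc, lift_snd_assoc, MonObj.one_comp, Category.assoc]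
    rw [show (tup fun _ => (1 : X ⟶ Red.Ga S)) ≫ RedSub.prodMap (Red.Ga S) n' (fun k => D.u (eN k)) = 1 from
      tup_one_rprod D eN,
      show (powSplit m' l).inv ≫ RedSub.prodMap (Red.Ga S) (m' + l) (fun k => D.u (Fin.append eP e k)) = _ from
      powSplit_rprod eP e, MonObj.comp_mul, lift_fst_assoc, lift_snd_assoc,
      show (tup fun _ => (1 : X ⟶ Red.Ga S)) ≫ rprod D eP = 1 from tup_one_rprod D eP]
    simp only [_root_.one_mul]
  have h12 : w₁ = w₂ := (cancel_mono (RedSub.cellMap D eN (Fin.append eP e))).1 (e1.trans e2.symm)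
  have hx : (tup fun _ => (1 : X ⟶ Red.Ga S)) = x := by
    have h3 := congrArg (fun w : X ⟶ src D n' (m' + l) => w ≫ snd _ _ ≫ snd _ _ ≫ (powSplit m' l).hom ≫ snd _ _) h12
    simp only [w₁, w₂, lift_snd_assoc, Category.assoc, Iso.inv_hom_id_assoc, lift_snd] at h3
    exact h3
  rw [← hx, tup_one_rprod]

/-- **A normal subgroup containing a root group contains the opposite one when a reflection is available.** -/
theorem exists_u_neg {H U : Over S} [GrpObj H] [GrpObj U] (h : H ⟶ G) [IsMonHom h] (j : U ⟶ H)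
    (hn : AlgGrp.IsNormalHom j) {a : D.idx} (n : 𝟙_ (Over S) ⟶ H) (hr : Bruhat.IsRefl D a (n ≫ h))
    (v : Red.Ga S ⟶ U) (hv : v ≫ j ≫ h = D.u a) :
    ∃ v' : Red.Ga S ⟶ U, v' ≫ j ≫ h = D.u (D.P.reflectionPerm a a) := by
  obtain ⟨w, hw⟩ := exists_conj_scale a a (n ≫ h) hr
  obtain ⟨n', hn'⟩ := hn (Red.Ga S) (toUnit _ ≫ n) v
  refine ⟨w ≫ n', ?_⟩
  rw [hw, Category.assoc]
  congr 1
  rw [← Category.assoc, ← hn', MonObj.mul_comp, MonObj.mul_comp, GrpObj.inv_comp, Category.assoc, Category.assoc, hv]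

end RedSym

end
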