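import Groth.Agent.RedSymLib.PosGenPlane
import Groth.Agent.BruhatLib.PlaneWord

/-!
# The positive root groups lie in every subgroup scheme containing the simple ones
-/

set_option autoImplicit false
set_option linter.style.haveILetI false
set_option linter.unusedSectionVars false
set_option backward.isDefEq.respectTransparency false
set_option maxHeartbeats 1000000
set_option synthInstance.maxHeartbeats 400000

universe u

open CategoryTheory CategoryTheory.Limits MonoidalCategory CartesianMonoidalCategory AlgebraicGeometry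
open Groth.Agent.GaPts
open Groth.Agent
open Groth.Agent.RankOne (eq_ptOf eq_ptOfUnit comp_ptOf ptOf_add)
open scoped MonObj

noncomputable section

attribute [-instance] CategoryTheory.Hom.commGroup

namespace RedSym

open SplitCell SplitFib RootSubgrp Bruhat

variable {S : Scheme.{u}} {G : Over S} [GrpObj G] [Nonempty S] {D : Red.SplitRed G} {b : D.P.Base}

/-- A positive root which is not simple is a positive root plus a simple one. -/
theorem exists_simple_sub {k : D.idx} (hk : b.IsPos k) (hk' : k ∉ b.support) :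
    ∃ a cc : D.idx, a ∈ b.support ∧ b.IsPos cc ∧ D.P.root k = D.P.root cc + D.P.root a := by
  haveI := SplitFib.isReduced_root D
  obtain ⟨a, ha, hpos⟩ := hk.exists_mem_support_pos_pairingIn
  rw [D.P.zero_lt_pairingIn_iff'] at hpos
  have hne : k ≠ a := fun e => hk' (e ▸ ha)
  obtain ⟨cc, hcc⟩ := D.P.root_sub_root_mem_of_pairingIn_pos hpos hne
  exact ⟨a, cc, ha, hk.sub ha hcc, by rw [hcc]; abel⟩

/-- A functional vanishing on two roots and, among the roots, only on their plane. -/
theorem exists_plane_functional (v w : D.idx) : ∃ h : D.M →ₗ[ℤ] ℤ, h (D.P.root v) = 0 ∧ h (D.P.root w) = 0 ∧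
    ∀ k, h (D.P.root k) = 0 → InPlane D v w k := by
  classical
  let W := Submodule.span ℤ ({D.P.root v, D.P.root w} : Set D.M)
  let Q := (D.M ⧸ W) ⧸ Submodule.torsion ℤ (D.M ⧸ W)
  haveI : Module.IsTorsionFree ℤ Q := inferInstance
  haveI : Module.Free ℤ Q := Module.free_of_finite_type_torsion_free'
  let π : D.M →ₗ[ℤ] Q := (Submodule.torsion ℤ (D.M ⧸ W)).mkQ.comp W.mkQ
  let T : Finset Q := insert 0 (Finset.univ.image fun k => π (D.P.root k))
  obtain ⟨φ, hφ⟩ := exists_injective_functional (fun x : T => (x : Q)) Subtype.val_injective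
  have hW : ∀ x ∈ W, φ.comp π x = 0 := fun x hx => by
    show φ ((Submodule.torsion ℤ (D.M ⧸ W)).mkQ (W.mkQ x)) = 0
    rw [show W.mkQ x = 0 from (Submodule.Quotient.mk_eq_zero W).2 hx, map_zero, map_zero]
  refine ⟨φ.comp π, hW _ (Submodule.subset_span (by simp)), hW _ (Submodule.subset_span (by simp)), fun k hk => ?_⟩
  have h0 : π (D.P.root k) = 0 := congrArg Subtype.val (@hφ ⟨π (D.P.root k), by simp [T]⟩ ⟨0, by simp [T]⟩
    (by show φ (π (D.P.root k)) = φ 0; rw [map_zero]; exact hk))
  have h1 : W.mkQ (D.P.root k) ∈ Submodule.torsion ℤ (D.M ⧸ W) := by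
    rw [← Submodule.Quotient.mk_eq_zero]; exact h0
  obtain ⟨⟨m, hm⟩, hm'⟩ := (Submodule.mem_torsion_iff _).1 h1
  have h2 : m • D.P.root k ∈ W := by
    rw [← Submodule.Quotient.mk_eq_zero, Submodule.Quotient.mk_smul]; exact hm'
  obtain ⟨i, j, hij⟩ := Submodule.mem_span_pair.1 h2
  exact ⟨m, i, j, nonZeroDivisors.ne_zero hm, hij.symm⟩

/-- A functional positive on the simple roots detects the positive roots. -/
theorem isPos_iff_of_functional (g : D.M →ₗ[ℤ] ℤ) (hg : ∀ a ∈ b.support, 0 < g (D.P.root a)) (k : D.idx) :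
    b.IsPos k ↔ 0 < g (D.P.root k) := by
  have key : ∀ c, b.IsPos c → 0 < g (D.P.root c) := fun c hc => by
    refine hc.induction_on_add hg fun i j l e hi hj => ?_
    rw [e, map_add]
    have := hg j hj
    omega
  refine ⟨key k, fun h => by_contra fun hk => ?_⟩
  have := key _ ((RootPairing.Base.IsPos.neg_iff_not b k).2 hk)
  change 0 < g (D.P.root (D.P.reflectionPerm k k)) at this
  rw [show D.P.root (D.P.reflectionPerm k k) = -D.P.root k from RootSubgrp.root_neg k, map_neg] at this
  omega

/-- **A positive root lies in the plane of a smaller one and of a simple one, which can be moved to the plane of two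
simple roots.** -/
theorem exists_smaller (g : D.M →ₗ[ℤ] ℤ) (hg : ∀ a ∈ b.support, 0 < g (D.P.root a)) {k : D.idx}
    (hk : b.IsPos k) (hk' : k ∉ b.support) : ∃ (l : List D.idx) (a c p q : D.idx) (i j : ℤ),
      a ∈ b.support ∧ b.IsPos c ∧ g (D.P.root c) < g (D.P.root k) ∧ SimplePair D b p q ∧
      (RedSub.wordPerm D.P l).symm p = a ∧ (RedSub.wordPerm D.P l).symm q = c ∧
      IsComb D p q (RedSub.wordPerm D.P l k) i j ∧ 0 ≤ i ∧ 0 ≤ j := by
  classical
  haveI := SplitFib.isReduced_root D
  obtain ⟨a, cc, ha, hcc, hkcc⟩ := exists_simple_sub hk hk'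
  obtain ⟨h, ha0, hcc0, hin⟩ := exists_plane_functional (D := D) a cc
  have hk0 : h (D.P.root k) = 0 := by rw [hkcc, map_add, ha0, hcc0]; rfl
  have hpos := fun c => isPos_iff_of_functional g hg c
  have hg0 : ∀ c, g (D.P.root c) ≠ 0 := fun c => by
    by_cases hc : b.IsPos c
    · have := (hpos c).1 hc; omega
    · have := (hpos _).1 ((RootPairing.Base.IsPos.neg_iff_not b c).2 hc)
      change 0 < g (D.P.root (D.P.reflectionPerm c c)) at this
      rw [show D.P.root (D.P.reflectionPerm c c) = -D.P.root c from RootSubgrp.root_neg c, map_neg] at this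
      omega
  have hcca : cc ≠ a := fun e => by
    have h2 : D.P.root k = (2 : ℤ) • D.P.root a := by rw [hkcc, e]; module
    have := eq_one_of_root_eq_smul (D := D) (by norm_num) h2
    omega
  -- the smallest other positive root of the plane
  obtain ⟨c, hc, hmin⟩ := Finset.exists_min_image
    (Finset.univ.filter fun x => h (D.P.root x) = 0 ∧ 0 < g (D.P.root x) ∧ x ≠ a) (fun x => g (D.P.root x))
    ⟨cc, Finset.mem_filter.2 ⟨Finset.mem_univ _, hcc0, (hpos cc).1 hcc, hcca⟩⟩
  obtain ⟨-, hc0, hcg, hca⟩ := Finset.mem_filter.1 hc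
  have hck : g (D.P.root c) < g (D.P.root k) := by
    refine lt_of_le_of_lt (hmin cc (Finset.mem_filter.2 ⟨Finset.mem_univ _, hcc0, (hpos cc).1 hcc, hcca⟩)) ?_
    rw [hkcc, map_add]
    have := hg a ha
    omega
  -- the functional which puts the plane first
  let K : ℤ := 1 + ∑ x, |g (D.P.root x)|
  have hK : ∀ x, |g (D.P.root x)| < K := fun x => by
    have := Finset.single_le_sum (f := fun x : D.idx => |g (D.P.root x)|) (fun x _ => abs_nonneg _) (Finset.mem_univ x)
    omega
  let F : D.M →ₗ[ℤ] ℤ := K • h + g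
  have hF : ∀ x, F (D.P.root x) = K * h (D.P.root x) + g (D.P.root x) := fun x => rfl
  have hsgn : ∀ x, (0 < F (D.P.root x) → 0 ≤ h (D.P.root x)) ∧ F (D.P.root x) ≠ 0 := fun x => by
    have hx := abs_lt.1 (hK x)
    rw [hF]
    rcases lt_trichotomy (h (D.P.root x)) 0 with h1 | h1 | h1
    · have : K * h (D.P.root x) ≤ K * (-1) := mul_le_mul_of_nonneg_left (by omega) (by omega)
      exact ⟨fun _ => by omega, by omega⟩
    · rw [h1, mul_zero, zero_add]; exact ⟨fun _ => le_rfl, hg0 x⟩
    · have : K * 1 ≤ K * h (D.P.root x) := mul_le_mul_of_nonneg_left (by omega) (by omega)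
      exact ⟨fun _ => h1.le, by omega⟩
  have hFg : ∀ x, h (D.P.root x) = 0 → F (D.P.root x) = g (D.P.root x) := fun x h1 => by
    rw [hF, h1, mul_zero, zero_add]
  obtain ⟨l, -, hdom⟩ := exists_dominant_word (b := b) F fun x => (hsgn x).2
  set π := RedSub.wordPerm D.P l with hπ
  set L := wordLin D l
  have hLr : ∀ x, D.P.root (π.symm x) = L (D.P.root x) := fun x => (wordLin_root D l x).symm
  have hπpos : ∀ x, b.IsPos (π x) ↔ 0 < F (D.P.root x) := fun x => by
    have := isPos_iff_of_functional (F.comp L.toLinearMap) (fun p hp => by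
      show 0 < F (L (D.P.root p))
      rw [← hLr]; exact hdom p hp) (π x)
    rwa [LinearMap.comp_apply, LinearEquiv.coe_coe, ← hLr, Equiv.symm_apply_apply] at this
  -- an indecomposable root becomes simple
  have simple : ∀ x, 0 < F (D.P.root x) →
      (∀ u v, 0 < F (D.P.root u) → 0 < F (D.P.root v) → D.P.root x ≠ D.P.root u + D.P.root v) →
      π x ∈ b.support := fun x hx hind => by
    by_contra hns
    obtain ⟨p, q, hp, hq, e⟩ := exists_simple_sub ((hπpos x).2 hx) hns
    refine hind (π.symm q) (π.symm p) ((hπpos _).1 (by rwa [Equiv.apply_symm_apply])) ?_ ?_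
    · rw [hLr]; have := hdom p hp; rwa [hLr] at this
    · have := congrArg L e
      rw [map_add, ← hLr, ← hLr, ← hLr, Equiv.symm_apply_apply] at this
      exact this
  have split : ∀ x u v, h (D.P.root x) = 0 → 0 < F (D.P.root u) → 0 < F (D.P.root v) →
      D.P.root x = D.P.root u + D.P.root v → h (D.P.root u) = 0 ∧ h (D.P.root v) = 0 ∧ 0 < g (D.P.root u) ∧
        0 < g (D.P.root v) := fun x u v h1 hu hv e => by
    have e1 := congrArg h e
    rw [h1, map_add] at e1
    have hu0 := (hsgn u).1 hu
    have hv0 := (hsgn v).1 hv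
    have hu1 : h (D.P.root u) = 0 := by omega
    have hv1 : h (D.P.root v) = 0 := by omega
    exact ⟨hu1, hv1, by rwa [← hFg u hu1], by rwa [← hFg v hv1]⟩
  have hp : π a ∈ b.support := simple a (by rw [hFg a ha0]; exact hg a ha) fun u v hu hv e => by
    obtain ⟨-, -, gu, gv⟩ := split a u v ha0 hu hv e
    have := b.height_add e
    have h1 := (RootPairing.Base.isPos_iff (b := b)).1 ((hpos u).2 gu)
    have h2 := (RootPairing.Base.isPos_iff (b := b)).1 ((hpos v).2 gv)
    rw [RootPairing.Base.height_one_of_mem_support (b := b) ha] at this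
    omega
  have hq : π c ∈ b.support := simple c (by rw [hFg c hc0]; exact hcg) fun u v hu hv e => by
    obtain ⟨hu0, hv0, gu, gv⟩ := split c u v hc0 hu hv e
    have e1 := congrArg g e
    rw [map_add] at e1
    have hua : u = a := by_contra fun hne => by
      have := hmin u (Finset.mem_filter.2 ⟨Finset.mem_univ _, hu0, gu, hne⟩); omega
    have hva : v = a := by_contra fun hne => by
      have := hmin v (Finset.mem_filter.2 ⟨Finset.mem_univ _, hv0, gv, hne⟩); omega
    have h2 : D.P.root c = (2 : ℤ) • D.P.root a := by rw [e, hua, hva]; module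
    have := eq_one_of_root_eq_smul (D := D) (by norm_num) h2
    omega
  have hne : π a ≠ π c := fun e => hca (π.injective e).symm
  have hli : LinearIndependent ℤ ![D.P.root a, D.P.root c] :=
    RootPairing.IsReduced.linearIndependent (P := D.P) hca.symm fun e => by
      have := congrArg g e
      rw [map_neg] at this
      have := hg a ha
      omega
  -- no third simple root in the plane
  obtain ⟨n, -, hn, hsum⟩ := b.exists_root_eq_sum_int (π k)
  have hkF : 0 < F (D.P.root k) := by rw [hFg k hk0]; exact (hpos k).1 hk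
  have hge : ∀ x, 0 ≤ n x := by
    rcases hn with hn | hn
    · exact fun x => hn.le x
    · exfalso
      have h1 := (RootPairing.Base.isPos_iff (b := b)).1 ((hπpos k).2 hkF)
      rw [b.height_eq_sum hsum] at h1
      have := Finset.sum_nonpos (s := b.support) fun x _ => hn.le x
      omega
  have hzero : ∀ x ∈ b.support, x ≠ π a → x ≠ π c → n x = 0 := fun x hx hxa hxc => by
    have h0 : ∀ y ∈ b.support, n y * h (L (D.P.root y)) = 0 := by
      refine (Finset.sum_eq_zero_iff_of_nonneg fun y hy => mul_nonneg (hge y) ?_).1 ?_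
      · rw [← hLr]; exact (hsgn _).1 (hdom y hy)
      · have := congrArg (fun v => h (L v)) hsum
        simp only [← hLr, Equiv.symm_apply_apply, hk0, map_sum, map_zsmul, smul_eq_mul] at this
        simp only [← hLr]
        exact this.symm
    refine (mul_eq_zero.1 (h0 x hx)).resolve_right fun hx0 => ?_
    rw [← hLr] at hx0
    obtain ⟨m, i, j, hm, e1⟩ := hin _ hx0
    obtain ⟨m', i', j', hm', e2⟩ := hin _ hc0
    have hj' : j' ≠ 0 := fun h0 => by
      have h1 := (LinearIndependent.pair_iff.1 hli (-i') m' (by rw [e2, h0]; module)).2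
      exact hm' h1
    have e3 : (j' * m) • D.P.root (π.symm x) + ((j * i' - j' * i) • D.P.root a + (-(j * m')) • D.P.root c) = 0 := by
      have e2' : (j * m') • D.P.root c = j • (i' • D.P.root a + j' • D.P.root cc) := by rw [mul_smul, e2]
      rw [neg_smul, e2', mul_smul, e1]; module
    have e4 := congrArg L.symm e3
    have hs : ∀ y, L.symm (D.P.root y) = D.P.root (π y) := fun y => by
      rw [LinearEquiv.symm_apply_eq, ← hLr, Equiv.symm_apply_apply]
    simp only [map_add, map_zsmul, map_zero, hs, Equiv.apply_symm_apply] at e4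
    have := (linearIndepOn_iff'.1 b.linearIndepOn_root) b.support
      (fun y => (if y = x then j' * m else 0) + (if y = π a then j * i' - j' * i else 0) +
        (if y = π c then -(j * m') else 0)) (Finset.coe_subset.2 subset_rfl) (by
        simp only [add_smul, ite_smul, zero_smul, Finset.sum_add_distrib, Finset.sum_ite_eq', hx, hp, hq, if_true]
        rw [add_assoc]; exact e4) x hx
    simp only [if_pos, if_neg hxa, if_neg hxc, add_zero, mul_eq_zero] at this
    exact this.elim hj' hm
  refine ⟨l, a, c, π a, π c, n (π a), n (π c), ha, (hpos c).2 hcg, hck, ⟨hp, hq, hne⟩, π.symm_apply_apply a,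
    π.symm_apply_apply c, ?_, hge _, hge _⟩
  show D.P.root _ = _
  rw [hsum, ← Finset.sum_subset (s₁ := {π a, π c}) (by simp [Finset.insert_subset_iff, hp, hq]) (fun x hx hx' => by
    simp only [Finset.mem_insert, Finset.mem_singleton, not_or] at hx'
    rw [hzero x hx hx'.1 hx'.2, zero_smul]), Finset.sum_pair hne]

variable {av : D.idx → (Red.Gm S ⟶ D.T)} {nr : D.idx → (𝟙_ (Over S) ⟶ G)} (hf : PinFam D b av nr)
include hf

/-- **The positive root groups are generated by the simple ones.** -/
theorem has_of_pos (P : PtSys G) (hP : ∀ a ∈ b.support, P.Has D a) {k : D.idx} (hk : b.IsPos k) : P.Has D k := by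
  classical
  obtain ⟨g, hgp, -⟩ := (sidesOfBase D.P b).regular
  have hg : ∀ a ∈ b.support, 0 < g (D.P.root a) := fun a ha => hgp a (simple_mem_pos ha)
  obtain ⟨N, hN⟩ : ∃ N : ℕ, g (D.P.root k) < N := ⟨(g (D.P.root k)).toNat + 1, by omega⟩
  induction N generalizing k with
  | zero =>
    have := (isPos_iff_of_functional g hg k).1 hk
    omega
  | succ N ih =>
    by_cases hks : k ∈ b.support
    · exact hP k hks
    obtain ⟨l, a, c, p, q, i, j, ha, hc, hck, hpq, hpa, hqc, hcomb, hi, hj⟩ := exists_smaller g hg hk hks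
    let P' : PtSys G :=
      { K := fun X => (P.K X).comap (MulAut.conj (nX nr X l)⁻¹).toMonoidHom
        desc := fun {X X'} π hπ {x} hx => by
          refine P.desc π hπ ?_
          have hx' : (nX nr X' l)⁻¹ * (π ≫ x) * (nX nr X' l)⁻¹⁻¹ ∈ P.K X' := hx
          show π ≫ ((nX nr X l)⁻¹ * x * (nX nr X l)⁻¹⁻¹) ∈ P.K X'
          simpa only [MonObj.comp_mul, GrpObj.comp_inv, comp_nX] using hx' }
    have into : ∀ x, P.Has D ((RedSub.wordPerm D.P l).symm x) → P'.Has D x := fun x hx X z => by
      obtain ⟨ρ, hρ⟩ := exists_rho hf.refl l x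
      show (nX nr X l)⁻¹ * ep D x z * (nX nr X l)⁻¹⁻¹ ∈ P.K X
      rw [_root_.inv_inv, hρ X (ptOf z), ep_of]
      exact hx X _
    have hP' := has_plane hf P' hpq (into p (by rw [hpa]; exact hP a ha))
      (into q (by rw [hqc]; exact ih hc (by omega))) hcomb hi hj
    intro X z
    obtain ⟨ρ, hρ⟩ := exists_rho hf.refl l (RedSub.wordPerm D.P l k)
    have h := hρ X ((ptOf z : X ⟶ Red.Ga S) ≫ ρ.inv)
    rw [Category.assoc (ptOf z : X ⟶ Red.Ga S) ρ.inv ρ.hom, ρ.inv_hom_id, Category.comp_id, Equiv.symm_apply_apply] at h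
    have h' : (nX nr X l)⁻¹ * _ * (nX nr X l)⁻¹⁻¹ ∈ P.K X :=
      hP' X (Red.gaFn ((ptOf z : X ⟶ Red.Ga S) ≫ ρ.inv))
    rw [_root_.inv_inv, ← ep_of, h] at h'
    exact h'

end RedSym

end
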