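import Groth.Agent.BruhatLib.G2Deriv
import Mathlib.Algebra.Group.Subgroup.Lattice
import Mathlib.Tactic.LinearCombination
import Mathlib.Tactic.Ring

/-!
# Root groups recovered from their commutators in types B₂ and G₂

If a subgroup contains the two simple root groups then it contains the others, once the ring has an element
`x` with `x³ = x + 1`: then `x`, `x - 1` and `x + 1` are units.
-/

set_option autoImplicit false

namespace RedSym

open Bruhat

variable {R M : Type*} [CommRing R] [Group M] {P Q A B C E : R → M}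

theorem relsB2_mem (h : RelsB2 P Q A B) (K : Subgroup M) (hP : ∀ r, P r ∈ K) (hQ : ∀ r, Q r ∈ K)
    (x : R) (hx : x ^ 3 = x + 1) (z : R) : A z ∈ K ∧ B z ∈ K := by
  have hW : ∀ a b, A (a * b) * B (a ^ 2 * b) ∈ K := fun a b => by
    have e : A (a * b) * B (a ^ 2 * b) = (P a * Q b)⁻¹ * (Q b * P a) := by rw [h.r1]; group
    rw [e]
    exact mul_mem (inv_mem (mul_mem (hP a) (hQ b))) (mul_mem (hQ b) (hP a))
  have hV : ∀ a b, B ((a ^ 2 - a) * b) ∈ K := fun a b => by
    have e : B ((a ^ 2 - a) * b) = (A (1 * (a * b)) * B (1 ^ 2 * (a * b)))⁻¹ * (A (a * b) * B (a ^ 2 * b)) := by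
      rw [show (1 : R) * (a * b) = a * b by ring, show (1 : R) ^ 2 * (a * b) = a * b by ring,
        show (a ^ 2 - a) * b = -(a * b) + a ^ 2 * b by ring, h.addB, map_neg_of_add h.addB]
      group
    rw [e]
    exact mul_mem (inv_mem (hW 1 (a * b))) (hW a b)
  have hB : ∀ w, B w ∈ K := fun w => by
    have e : w = (x ^ 2 - x) * ((x + 1) * w) := by linear_combination (-w) * hx
    rw [e]
    exact hV _ _
  refine ⟨?_, hB z⟩
  have h1 := mul_mem (hW 1 z) (inv_mem (hB (1 ^ 2 * z)))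
  rwa [mul_inv_cancel_right, one_mul] at h1

theorem relsG2_mem (h : RelsG2 P Q A B C E) (K : Subgroup M) (hP : ∀ r, P r ∈ K) (hQ : ∀ r, Q r ∈ K)
    (x : R) (hx : x ^ 3 = x + 1) (z : R) : A z ∈ K ∧ B z ∈ K ∧ C z ∈ K ∧ E z ∈ K := by
  have hW : ∀ a b, A (a * b) * B (a ^ 2 * b) * C (a ^ 3 * b) * E (a ^ 3 * b ^ 2) ∈ K := fun a b => by
    have e : A (a * b) * B (a ^ 2 * b) * C (a ^ 3 * b) * E (a ^ 3 * b ^ 2) = (P a * Q b)⁻¹ * (Q b * P a) := by
      rw [h.r1]; group
    rw [e]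
    exact mul_mem (inv_mem (mul_mem (hP a) (hQ b))) (mul_mem (hQ b) (hP a))
  have hW1 : ∀ a, A a * B a * C a * E (a ^ 2) ∈ K := fun a => by simpa using hW 1 a
  have nv : ∀ a b, (A a * B a * C a * E (a ^ 2)) * (A b * B b * C b * E (b ^ 2)) =
      A (a + b) * B (a + b) * C (a + b) * E ((a + b) ^ 2) * E (a * b) := fun a b => by
    have hEE : ∀ u v, E (u + v) = E u * E v := h.addE
    have c1 : C a * A b = A b * C a := (h.cAC b a).eq.symm
    have c2 : C a * B b = B b * C a := (h.cBC b a).eq.symm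
    have cEA : ∀ u v, E u * A v = A v * E u := fun u v => (h.cAE v u).eq.symm
    have cEB : ∀ u v, E u * B v = B v * E u := fun u v => (h.cBE v u).eq.symm
    have cEC : ∀ u v, E u * C v = C v * E u := fun u v => (h.cCE v u).eq.symm
    have r5 : B a * A b = A b * B a * E (3 * b * a) := h.r5 b a
    calc A a * B a * C a * E (a ^ 2) * (A b * B b * C b * E (b ^ 2))
        = A a * B a * C a * (E (a ^ 2) * A b) * B b * C b * E (b ^ 2) := by group
      _ = A a * B a * (C a * A b) * (E (a ^ 2) * B b) * C b * E (b ^ 2) := by rw [cEA]; group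
      _ = A a * (B a * A b) * (C a * B b) * (E (a ^ 2) * C b) * E (b ^ 2) := by rw [c1, cEB]; group
      _ = A a * A b * B a * (E (3 * b * a) * B b) * C a * C b * E (a ^ 2) * E (b ^ 2) := by
        rw [r5, c2, cEC]; group
      _ = A a * A b * B a * B b * (E (3 * b * a) * C a) * C b * E (a ^ 2) * E (b ^ 2) := by rw [cEB]; group
      _ = A a * A b * B a * B b * C a * (E (3 * b * a) * C b) * E (a ^ 2) * E (b ^ 2) := by rw [cEC]; group
      _ = A (a + b) * B (a + b) * C (a + b) * (E (3 * b * a) * E (a ^ 2) * E (b ^ 2)) := by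
        rw [cEC, h.addA, h.addB, h.addC]; group
      _ = _ := by
        rw [mul_assoc _ (E _) (E (a * b)), ← hEE, ← hEE, ← hEE]
        congr 2
        ring
  have hE : ∀ w, E w ∈ K := fun w => by
    have h2 := mul_mem (inv_mem (hW1 (1 + w))) (mul_mem (hW1 1) (hW1 w))
    rw [nv, inv_mul_cancel_left, one_mul] at h2
    exact h2
  have hW' : ∀ a b, A (a * b) * B (a ^ 2 * b) * C (a ^ 3 * b) ∈ K := fun a b => by
    have := mul_mem (hW a b) (inv_mem (hE (a ^ 3 * b ^ 2)))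
    rwa [mul_inv_cancel_right] at this
  have hV : ∀ a b, B ((a ^ 2 - a) * b) * C ((a ^ 3 - a) * b) ∈ K := fun a b => by
    have e : B ((a ^ 2 - a) * b) * C ((a ^ 3 - a) * b) =
        (A (1 * (a * b)) * B (1 ^ 2 * (a * b)) * C (1 ^ 3 * (a * b)))⁻¹ *
          (A (a * b) * B (a ^ 2 * b) * C (a ^ 3 * b)) := by
      rw [show (1 : R) * (a * b) = a * b by ring, show (1 : R) ^ 2 * (a * b) = a * b by ring,
        show (1 : R) ^ 3 * (a * b) = a * b by ring,
        show (a ^ 2 - a) * b = -(a * b) + a ^ 2 * b by ring, h.addB, map_neg_of_add h.addB,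
        show (a ^ 3 - a) * b = -(a * b) + a ^ 3 * b by ring, h.addC, map_neg_of_add h.addC]
      have c2 : (C (a * b))⁻¹ * (B (a * b))⁻¹ = (B (a * b))⁻¹ * (C (a * b))⁻¹ :=
        ((h.cBC (a * b) (a * b)).symm.inv_inv).eq
      have c3 : (C (a * b))⁻¹ * B (a ^ 2 * b) = B (a ^ 2 * b) * (C (a * b))⁻¹ :=
        ((h.cBC (a ^ 2 * b) (a * b)).symm.inv_left).eq
      calc (B (a * b))⁻¹ * B (a ^ 2 * b) * ((C (a * b))⁻¹ * C (a ^ 3 * b))
          = (B (a * b))⁻¹ * (B (a ^ 2 * b) * (C (a * b))⁻¹) * C (a ^ 3 * b) := by group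
        _ = ((B (a * b))⁻¹ * (C (a * b))⁻¹) * B (a ^ 2 * b) * C (a ^ 3 * b) := by rw [← c3]; group
        _ = _ := by rw [← c2]; group
    rw [e]
    exact mul_mem (inv_mem (hW' 1 (a * b))) (hW' a b)
  have hC : ∀ w, C w ∈ K := fun w => by
    have h1 := hV x ((x + 1) * x * ((x ^ 2 - 1) * w))
    have h2 := hV (x + 1) ((x ^ 2 - x) * ((x ^ 2 - 1) * w))
    have h3 := mul_mem (inv_mem h1) h2
    rw [show ((x + 1) ^ 2 - (x + 1)) * ((x ^ 2 - x) * ((x ^ 2 - 1) * w)) =
        (x ^ 2 - x) * ((x + 1) * x * ((x ^ 2 - 1) * w)) by ring, _root_.mul_inv_rev, mul_assoc,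
      inv_mul_cancel_left, ← map_neg_of_add h.addC, ← h.addC] at h3
    rw [show w = -((x ^ 3 - x) * ((x + 1) * x * ((x ^ 2 - 1) * w))) +
        ((x + 1) ^ 3 - (x + 1)) * ((x ^ 2 - x) * ((x ^ 2 - 1) * w)) by
      linear_combination (-(w * (x ^ 3 - x + 1))) * hx]
    exact h3
  have hB : ∀ w, B w ∈ K := fun w => by
    have h1 := mul_mem (hV x ((x + 1) * w)) (inv_mem (hC ((x ^ 3 - x) * ((x + 1) * w))))
    rw [mul_inv_cancel_right, show (x ^ 2 - x) * ((x + 1) * w) = w by linear_combination w * hx] at h1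
    exact h1
  refine ⟨?_, hB z, hC z, hE z⟩
  have h1 := mul_mem (mul_mem (hW' 1 z) (inv_mem (hC (1 ^ 3 * z)))) (inv_mem (hB (1 ^ 2 * z)))
  rwa [mul_inv_cancel_right, mul_inv_cancel_right, one_mul] at h1

end RedSym
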