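import Groth.Agent.RedSymLib.PosGenAlg
import Groth.Agent.BruhatLib.PMorComm
import Groth.Agent.BruhatLib.PinIso
import Groth.Agent.BruhatLib.Map
import Mathlib.AlgebraicGeometry.Sites.Fpqc
import Mathlib.RingTheory.AdjoinRoot
import Mathlib.RingTheory.RingHom.FaithfullyFlat

/-!
# The positive root groups lie in every subgroup scheme containing the simple ones: the plane
-/

set_option autoImplicit false
set_option linter.style.haveILetI false
set_option linter.unusedSectionVars false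
set_option backward.isDefEq.respectTransparency false
set_option maxHeartbeats 1000000
set_option synthInstance.maxHeartbeats 400000

universe u

open CategoryTheory CategoryTheory.Limits MonoidalCategory CartesianMonoidalCategory AlgebraicGeometry
open Groth.Agent.GaPts
open Groth.Agent
open Groth.Agent.RankOne (eq_ptOf eq_ptOfUnit comp_ptOf ptOf_add)
open scoped MonObj

noncomputable section

attribute [-instance] CategoryTheory.Hom.commGroup

namespace RedSym

open SplitCell SplitFib RootSubgrp Bruhat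

variable {S : Scheme.{u}} {G H : Over S} [GrpObj G] [GrpObj H]

/-- Every scheme over `S` has a flat cover on which `x³ = x + 1` has a root. -/
theorem exists_cubic_cover (X : Over S) : ∃ (X' : Over S) (π : X' ⟶ X) (x : Γ(X'.left, ⊤)),
    x ^ 3 = x + 1 ∧ EffectiveEpi π.left := by
  let f : Polynomial (ULift.{u} ℤ) := Polynomial.X ^ 3 - (Polynomial.X + Polynomial.C 1)
  haveI : IsDomain (ULift.{u} ℤ) := MulEquiv.isDomain ℤ ULift.ringEquiv.toMulEquiv
  have hd : (Polynomial.X + Polynomial.C (1 : ULift.{u} ℤ)).degree < ((3 : ℕ) : WithBot ℕ) := by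
    rw [Polynomial.degree_X_add_C]; norm_num
  have hf : f.Monic := Polynomial.monic_X_pow_sub hd
  haveI : Module.Free (ULift.{u} ℤ) (AdjoinRoot f) := Module.Free.of_basis (AdjoinRoot.powerBasis' hf).basis
  haveI : Nontrivial (AdjoinRoot f) := AdjoinRoot.nontrivial f (by
    rw [Polynomial.degree_sub_eq_left_of_degree_lt] <;> simp [Polynomial.degree_X_add_C]
    exact hd)
  haveI : Module.FaithfullyFlat (ULift.{u} ℤ) (AdjoinRoot f) := inferInstance
  let φ := CommRingCat.ofHom (algebraMap (ULift.{u} ℤ) (AdjoinRoot f))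
  let q : Spec (CommRingCat.of (AdjoinRoot f)) ⟶ Spec (CommRingCat.of (ULift.{u} ℤ)) := Spec.map φ
  haveI : Flat q := by
    rw [HasRingHomProperty.Spec_iff (P := @Flat)]
    exact RingHom.flat_algebraMap_iff.2 inferInstance
  haveI : Surjective q := ⟨PrimeSpectrum.comap_surjective_of_faithfullyFlat⟩
  let t : X.left ⟶ Spec (CommRingCat.of (ULift.{u} ℤ)) := specULiftZIsTerminal.from _
  let X' : Over S := Over.mk (pullback.fst t q ≫ X.hom)
  let π : X' ⟶ X := Over.homMk (pullback.fst t q) rfl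
  let r : AdjoinRoot f := AdjoinRoot.root f
  have hr : r ^ 3 = r + 1 := by
    have h := AdjoinRoot.eval₂_root f
    simp only [f, Polynomial.eval₂_sub, Polynomial.eval₂_X_pow, Polynomial.eval₂_add, Polynomial.eval₂_X,
      Polynomial.eval₂_one, map_one] at h
    exact sub_eq_zero.1 h
  let ψ : AdjoinRoot f →+* Γ(X'.left, ⊤) :=
    (pullback.snd t q).appTop.hom.comp (Scheme.ΓSpecIso (CommRingCat.of (AdjoinRoot f))).inv.hom
  refine ⟨X', π, ψ r, ?_, ?_⟩
  · rw [← map_pow, hr, map_add, map_one]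
  · show EffectiveEpi (pullback.fst t q)
    infer_instance

variable (h : H ⟶ G) [IsMonHom h]

/-- The points coming from the subgroup. -/
def ptsOf (X : Over S) : Subgroup (X ⟶ G) where
  carrier := {g | ∃ f : X ⟶ H, f ≫ h = g}
  one_mem' := ⟨1, MonObj.one_comp h⟩
  mul_mem' := by
    rintro _ _ ⟨f, rfl⟩ ⟨f', rfl⟩
    exact ⟨f * f', MonObj.mul_comp f f' h⟩
  inv_mem' := by
    rintro _ ⟨f, rfl⟩
    exact ⟨f⁻¹, GrpObj.inv_comp f h⟩

/-- Coming from a monomorphism is local for effective epimorphisms. -/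
theorem ptsOf_desc [Mono h] {X X' : Over S} (π : X' ⟶ X) [EffectiveEpi π.left] {g : X ⟶ G}
    (hg : π ≫ g ∈ ptsOf h X') : g ∈ ptsOf h X := by
  obtain ⟨f, hf⟩ := hg
  haveI : Mono h.left := Over.mono_left_of_mono h
  have hl : f.left ≫ h.left = π.left ≫ g.left := congrArg CommaMorphism.left hf
  let d : X.left ⟶ H.left := EffectiveEpi.desc π.left f.left fun g₁ g₂ e => by
    rw [← cancel_mono h.left, Category.assoc, Category.assoc, hl, ← Category.assoc, ← Category.assoc, e]
  have hd : d ≫ h.left = g.left := by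
    rw [← cancel_epi π.left, ← Category.assoc, EffectiveEpi.fac, hl]
  refine ⟨Over.homMk d ?_, Over.OverMorphism.ext hd⟩
  rw [← Over.w h, ← Category.assoc, hd, Over.w g]

variable [Nonempty S] {D : Red.SplitRed G} {b : D.P.Base} {av : D.idx → (Red.Gm S ⟶ D.T)}
  {nr : D.idx → (𝟙_ (Over S) ⟶ G)}

/-- A family of subgroups of points stable under pullback and local for effective epimorphisms. -/
structure PtSys (G : Over S) [GrpObj G] where
  /-- the subgroups -/
  K : ∀ X : Over S, Subgroup (X ⟶ G)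
  desc : ∀ {X X' : Over S} (π : X' ⟶ X), EffectiveEpi π.left → ∀ {g : X ⟶ G}, π ≫ g ∈ K X' → g ∈ K X

/-- The root group is in the family. -/
def PtSys.Has (P : PtSys G) (D : Red.SplitRed G) (k : D.idx) : Prop :=
  ∀ (X : Over S) (z : Γ(X.left, ⊤)), ep D k z ∈ P.K X

/-- It suffices to contain a root group over rings with a root of `x³ = x + 1`. -/
theorem PtSys.has_of_cubic (P : PtSys G) (k : D.idx)
    (hk : ∀ (X : Over S) (x : Γ(X.left, ⊤)), x ^ 3 = x + 1 → ∀ z : Γ(X.left, ⊤), ep D k z ∈ P.K X) :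
    P.Has D k := fun X z => by
  obtain ⟨X', π, x, hx, hπ⟩ := exists_cubic_cover X
  refine P.desc π hπ ?_
  rw [← Category.assoc, comp_ptOf]
  exact hk X' x hx _

variable (hf : PinFam D b av nr)
include hf

theorem exists_pre (a k : D.idx) {X : Over S} (z : Γ(X.left, ⊤)) :
    ∃ r : Γ(X.left, ⊤), ep D (D.P.reflectionPerm a k) z = cj (nr a) (ep D k r) := by
  obtain ⟨ρ, hρ⟩ := exists_rho hf.refl [a] (D.P.reflectionPerm a k)
  have hp : (RedSub.wordPerm D.P [a]).symm (D.P.reflectionPerm a k) = k := by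
    rw [Equiv.symm_apply_eq]
    simp [RedSub.wordPerm]
  have h := hρ X (ptOf z)
  rw [hp] at h
  refine ⟨Red.gaFn ((ptOf z : X ⟶ Red.Ga S) ≫ ρ.hom), ?_⟩
  rw [← ep_of, ← h]
  simp only [nX, List.map_cons, List.map_nil, List.prod_cons, List.prod_nil, _root_.mul_one, cj, ep]
  group

/-- **The plane of two simple roots.** -/
theorem has_plane (P : PtSys G) {p q : D.idx} (hpq : SimplePair D b p q) (hp : P.Has D p) (hq : P.Has D q)
    {k : D.idx} {i j : ℤ} (hk : IsComb D p q k i j) (hi : 0 ≤ i) (hj : 0 ≤ j) : P.Has D k := by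
  rcases eq_or_ne i 0 with rfl | hi0
  · obtain rfl : j = 1 := by rcases hk.right_eq_one with h | h <;> omega
    rwa [hk.unique isComb_right]
  rcases eq_or_ne j 0 with rfl | hj0
  · obtain rfl : i = 1 := by rcases hk.left_eq_one with h | h <;> omega
    rwa [hk.unique isComb_left]
  wlog hcase : D.P.pairing p q = -1 ∨ D.P.pairing p q = 0 generalizing p q i j
  · refine this hpq.symm hq hp (i := j) (j := i) (by rw [IsComb] at hk ⊢; rw [hk]; abel) hj hi hj0 hi0 ?_
    rcases pairing_cases hpq.hp hpq.hq hpq.hne with ⟨h1, h2⟩ | ⟨h1, h2⟩ | ⟨h1, h2⟩ | ⟨h1, h2⟩ | ⟨h1, h2⟩ | ⟨h1, h2⟩ <;>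
      omega
  rcases pairing_cases hpq.hp hpq.hq hpq.hne with ⟨h1, h2⟩ | ⟨h1, h2⟩ | ⟨h1, h2⟩ | ⟨h1, h2⟩ | ⟨h1, h2⟩ | ⟨h1, h2⟩
  · exact absurd (not_root_A1 hpq h1 hk) (by omega)
  · have T : PairA2 D b p q (av p) (av q) (nr p) (nr q) :=
      ⟨hpq.hp, hpq.hq, hpq.hne, h1, h2, hf.pin p hpq.hp, hf.pin q hpq.hq⟩
    obtain ⟨rfl, rfl⟩ := T.comb (m := i) (n := j) (by omega) (by omega) hk
    have hA : IsComb D p q (D.P.reflectionPerm q p) 1 1 := by
      show D.P.root _ = _
      rw [T.root_sum]; module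
    obtain rfl := hk.unique hA
    intro X z
    obtain ⟨r, hr⟩ := exists_pre hf q p z
    rw [hr]
    have e := T.commutator (X := X) (ptOf r) (ptOf 1) (ptOf r) (by rw [gaFn_ptOf, gaFn_ptOf, _root_.mul_one])
    have e' : cj (nr q) (ep D p r) = ((ep D p r) * (ep D q 1))⁻¹ * (ep D q 1 * ep D p r) := by
      rw [show ep D q 1 * ep D p r = ep D p r * ep D q 1 * cj (nr q) (ep D p r) from e]
      exact (inv_mul_cancel_left _ _).symm
    rw [e']
    exact mul_mem (inv_mem (mul_mem (hp X r) (hq X 1))) (mul_mem (hq X 1) (hp X r))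
  · have T : PairB2 D b p q (av p) (av q) (nr p) (nr q) :=
      ⟨hpq, h1, h2, hf.pin p hpq.hp, hf.pin q hpq.hq⟩
    refine P.has_of_cubic k fun X x hx z => ?_
    have hmem := relsB2_mem (T.rels X) (P.K X) (hp X) (hq X) x hx
    rcases T.no hk with ⟨h', rfl⟩ | ⟨rfl, h'⟩ | ⟨rfl, rfl⟩ | ⟨rfl, rfl⟩ | ⟨rfl, rfl⟩ | ⟨rfl, rfl⟩
    · omega
    · omega
    · rw [hk.unique T.comb_ab]
      obtain ⟨r, hr⟩ := exists_pre hf q p z
      rw [hr]; exact (hmem r).1
    · rw [hk.unique T.comb_aab]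
      obtain ⟨r, hr⟩ := exists_pre hf p q z
      rw [hr]; exact (hmem r).2
    all_goals omega
  · omega
  · have T : PairG2 D b p q (av p) (av q) (nr p) (nr q) :=
      ⟨hpq, h1, h2, hf.pin p hpq.hp, hf.pin q hpq.hq⟩
    refine P.has_of_cubic k fun X x hx z => ?_
    have hmem := relsG2_mem (T.rels X) (P.K X) (hp X) (hq X) x hx
    rcases T.no hk with ⟨h', rfl⟩ | ⟨rfl, h'⟩ | ⟨h', h'', rfl⟩ | ⟨rfl, rfl⟩ | ⟨h', h'', rfl⟩ | ⟨rfl, rfl⟩
    · omega
    · omega
    · obtain rfl | rfl | rfl : i = 1 ∨ i = 2 ∨ i = 3 := by omega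
      · rw [hk.unique T.comb11]
        obtain ⟨r, hr⟩ := exists_pre hf q p z
        rw [hr]; exact (hmem r).1
      · rw [hk.unique T.comb21]
        obtain ⟨s, hs⟩ := exists_pre hf p (D.P.reflectionPerm q p) z
        obtain ⟨r, hr⟩ := exists_pre hf q p s
        rw [hs, hr]; exact (hmem r).2.1
      · rw [hk.unique T.comb31]
        obtain ⟨r, hr⟩ := exists_pre hf p q z
        rw [hr, ← neg_neg r]; exact (hmem (-r)).2.2.1
    · rw [hk.unique T.comb32]
      obtain ⟨s, hs⟩ := exists_pre hf q (D.P.reflectionPerm p q) z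
      obtain ⟨r, hr⟩ := exists_pre hf p q s
      rw [hs, hr, ← neg_neg r]; exact (hmem (-r)).2.2.2
    all_goals omega
  · omega

end RedSym

end
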